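import Mathlib
import Cfsg.Agent.S3335
import Cfsg.Agent.Lib.Unitary.Center

/-!
# A subgroup `A₇` of `PSU₃(5)`
-/

set_option autoImplicit false

namespace Cfsg.Agent.PSU35

open Matrix Cfsg.Agent.Unitary

/-- The field with 25 elements as `𝔽₅[r]`, `r² = 2`. -/
abbrev K25 : Type := QuadraticAlgebra (ZMod 5) 2 0

/-- Images of Carmichael's generators of `A₇`. -/
def gen : Fin 5 → Matrix (Fin 3) (Fin 3) K25 := ![
  !![⟨0, 0⟩, ⟨0, 1⟩, ⟨0, 1⟩; ⟨0, 1⟩, ⟨2, 0⟩, ⟨3, 0⟩; ⟨0, 4⟩, ⟨2, 0⟩, ⟨3, 0⟩],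
  !![⟨1, 0⟩, ⟨0, 0⟩, ⟨0, 0⟩; ⟨0, 0⟩, ⟨4, 0⟩, ⟨0, 0⟩; ⟨0, 0⟩, ⟨0, 0⟩, ⟨4, 0⟩],
  !![⟨2, 0⟩, ⟨0, 0⟩, ⟨0, 2⟩; ⟨0, 0⟩, ⟨4, 0⟩, ⟨0, 0⟩; ⟨0, 3⟩, ⟨0, 0⟩, ⟨3, 0⟩],
  !![⟨4, 0⟩, ⟨0, 0⟩, ⟨0, 0⟩; ⟨0, 0⟩, ⟨2, 0⟩, ⟨0, 2⟩; ⟨0, 0⟩, ⟨0, 3⟩, ⟨3, 0⟩],
  !![⟨4, 0⟩, ⟨0, 0⟩, ⟨0, 0⟩; ⟨0, 0⟩, ⟨1, 0⟩, ⟨0, 0⟩; ⟨0, 0⟩, ⟨0, 0⟩, ⟨4, 0⟩]]

/-- Conjugation of `K25`, with transposition. -/
def star25 (M : Matrix (Fin 3) (Fin 3) K25) : Matrix (Fin 3) (Fin 3) K25 :=
  fun i j => ⟨(M j i).re, -(M j i).im⟩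

theorem gen_unitary : ∀ i, star25 (gen i) * gen i = 1 := by decide +kernel

theorem gen_det : ∀ i, (gen i).det = 1 := by
  intro i
  rw [Matrix.det_fin_three]
  revert i
  decide +kernel

/-- `M` is a scalar matrix. -/
abbrev IsScal (M : Matrix (Fin 3) (Fin 3) K25) : Prop :=
  M = Matrix.diagonal fun _ => M 0 0

theorem gen_rels :
    IsScal (gen 0 * gen 0 * gen 0) ∧
    (∀ i, 1 ≤ (i : Fin 5).val → IsScal (gen i * gen i)) ∧
    (∀ i j : Fin 5, j.val = i.val + 1 →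
      IsScal (gen i * gen j * (gen i * gen j) * (gen i * gen j))) ∧
    (∀ i j : Fin 5, i.val + 1 < j.val → IsScal (gen i * gen j * (gen i * gen j))) := by
  decide +kernel

theorem sq_ne_two : ∀ z : ZMod 5, z * z ≠ 2 := by decide

theorem gen_zero_not_scal : ¬ IsScal (gen 0) := by decide +kernel

variable {F : Type*} [Field F] [Fintype F] (hF : Fintype.card F = 5 ^ 2)

include hF in
theorem exists_alt_seven [CharP F 5] :
    ∃ f : alternatingGroup (Fin 7) →* Cfsg.PSU 3 F 5, Function.Injective f := by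
  haveI : Fact (Nat.Prime 5) := ⟨Nat.prime_five⟩
  letI : Algebra (ZMod 5) F := ZMod.algebra F 5
  obtain ⟨r, hr⟩ : ∃ r : F, r * r = 2 := by
    obtain ⟨g, hg⟩ := IsCyclic.exists_ofOrder_eq_natCard (α := Fˣ)
    rw [Nat.card_units, Nat.card_eq_fintype_card, hF] at hg
    have h2 : (2 : F) ^ 12 = 1 := by
      have h5 : (5 : F) = 0 := CharP.cast_eq_zero F 5
      linear_combination (819 : F) * h5
    have h20 : (2 : F) ≠ 0 := fun h => by simp [h] at h2
    obtain ⟨k, hk⟩ := mem_powers_iff_mem_zpowers.2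
      (show Units.mk0 (2 : F) h20 ∈ Subgroup.zpowers g by
        rw [Subgroup.eq_top_of_card_eq (Subgroup.zpowers g) (by
          rw [Nat.card_zpowers, hg, Nat.card_units, Nat.card_eq_fintype_card, hF])]
        trivial)
    have hk12 : g ^ (k * 12) = 1 := by
      rw [pow_mul, show g ^ k = Units.mk0 (2 : F) h20 from hk]
      exact Units.ext (by simpa using h2)
    rw [← orderOf_dvd_iff_pow_eq_one, hg] at hk12
    obtain ⟨l, hl⟩ : 2 ∣ k := by omega
    refine ⟨((g ^ l : Fˣ) : F), ?_⟩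
    rw [← Units.val_mul, ← pow_add, show l + l = k by omega, show g ^ k = Units.mk0 (2 : F) h20 from hk]
    rfl
  have hr' : r * r = (2 : ZMod 5) • (1 : F) + (0 : ZMod 5) • r := by
    rw [zero_smul, add_zero, Algebra.smul_def, mul_one, map_ofNat, hr]
  let φ : K25 →ₐ[ZMod 5] F := QuadraticAlgebra.lift ⟨r, hr'⟩
  have hr5 : r ^ 5 = -r := by
    have h5 : (5 : F) = 0 := CharP.cast_eq_zero F 5
    linear_combination (r * (r * r + 2)) * hr + r * h5
  have hconj : ∀ z : K25, φ z ^ 5 = φ ⟨z.re, -z.im⟩ := by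
    intro z
    show (z.re • (1 : F) + z.im • r) ^ 5 = z.re • (1 : F) + (-z.im) • r
    rw [add_pow_char, Algebra.smul_def, Algebra.smul_def, Algebra.smul_def, mul_pow, mul_pow,
      ← map_pow, ← map_pow, ZMod.pow_card, ZMod.pow_card, hr5, map_neg]
    ring
  let s : Fin 5 → Matrix.SpecialLinearGroup (Fin 3) F := fun i =>
    ⟨(gen i).map φ, by
      rw [← AlgHom.mapMatrix_apply, ← AlgHom.map_det, gen_det, map_one]⟩
  have hs : ∀ i, s i ∈ SU 3 F 5 := by
    intro i x y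
    show herm 5 (((gen i).map φ) *ᵥ x) (((gen i).map φ) *ᵥ y) = herm 5 x y
    have h : ∀ j k, ∑ l, φ (gen i l j) ^ 5 * φ (gen i l k) = if j = k then 1 else 0 := by
      intro j k
      have h := congrArg φ (congrFun (congrFun (gen_unitary i) j) k)
      simp only [Matrix.mul_apply, map_sum, map_mul, star25] at h
      simp only [hconj]
      rw [h, Matrix.one_apply]
      split <;> simp
    have e : ∀ (j k : Fin 3), ∑ l, φ (gen i l j) * φ (gen i l k) ^ 5 = if j = k then 1 else 0 := by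
      intro j k
      have h' := h k j
      simp only [eq_comm (a := k)] at h'
      rw [← h']
      exact Finset.sum_congr rfl fun l _ => mul_comm _ _
    simp only [herm, hermForm, Matrix.mulVec, dotProduct, Matrix.map_apply, sum_pow_q hF, mul_pow,
      Finset.sum_mul, Finset.mul_sum]
    rw [Finset.sum_comm]
    refine Finset.sum_congr rfl fun j _ => ?_
    rw [Finset.sum_comm]
    calc ∑ k, ∑ l, φ (gen i l k) * x k * (φ (gen i l j) ^ 5 * y j ^ 5)
        = ∑ k, (∑ l, φ (gen i l k) * φ (gen i l j) ^ 5) * (x k * y j ^ 5) := by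
          refine Finset.sum_congr rfl fun k _ => ?_
          rw [Finset.sum_mul]
          exact Finset.sum_congr rfl fun l _ => by ring
      _ = x j * y j ^ 5 := by simp only [e]; simp
  let t : Fin 5 → SU 3 F 5 := fun i => ⟨s i, hs i⟩
  have cm : ∀ M N : SU 3 F 5, ((M * N : SU 3 F 5).1 : Matrix (Fin 3) (Fin 3) F) =
      (M.1 : Matrix (Fin 3) (Fin 3) F) * (N.1 : Matrix (Fin 3) (Fin 3) F) := fun _ _ => rfl
  have ht : ∀ i, ((t i).1 : Matrix (Fin 3) (Fin 3) F) = (gen i).map φ := fun _ => rfl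
  have hcen : ∀ (g : SU 3 F 5) (M : Matrix (Fin 3) (Fin 3) K25),
      (g.1 : Matrix (Fin 3) (Fin 3) F) = M.map φ → IsScal M →
        (g : Cfsg.PSU 3 F 5) = 1 := by
    intro g M hg hM
    rw [QuotientGroup.eq_one_iff, mem_center_iff hF (by norm_num)]
    refine ⟨φ (M 0 0), fun x => ?_⟩
    show (g.1 : Matrix (Fin 3) (Fin 3) F) *ᵥ x = φ (M 0 0) • x
    have : (g.1 : Matrix (Fin 3) (Fin 3) F) = φ (M 0 0) • (1 : Matrix (Fin 3) (Fin 3) F) := by
      ext i j
      rw [hg, Matrix.map_apply, congrFun (congrFun hM i) j, Matrix.diagonal_apply,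
        Matrix.smul_apply, Matrix.one_apply]
      split <;> simp
    rw [this, Matrix.smul_mulVec, Matrix.one_mulVec]
  let T : Fin 5 → Cfsg.PSU 3 F 5 := fun i => ((t i : SU 3 F 5) : Cfsg.PSU 3 F 5)
  have mm : ∀ A B : Matrix (Fin 3) (Fin 3) K25, A.map φ * B.map φ = (A * B).map φ :=
    fun A B => (Matrix.map_mul (f := φ.toRingHom)).symm
  have hrels : ∀ x ∈ S3335.rels 5, FreeGroup.lift T x = 1 := by
    refine S3335.lift_rels T ?_ ?_ ?_ ?_
    · intro i hi
      obtain rfl : i = 0 := Fin.ext hi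
      rw [pow_succ, pow_two]
      exact hcen (t 0 * t 0 * t 0) _ (by rw [cm, cm, ht, mm, mm]) gen_rels.1
    · intro i hi
      rw [pow_two]
      exact hcen (t i * t i) _ (by rw [cm, ht, mm]) (gen_rels.2.1 i hi)
    · intro i j hij
      rw [pow_succ, pow_two]
      exact hcen (t i * t j * (t i * t j) * (t i * t j)) _ (by rw [cm, cm, cm, ht, ht, mm, mm, mm])
        (gen_rels.2.2.1 i j hij)
    · intro i j hij
      rw [pow_two]
      exact hcen (t i * t j * (t i * t j)) _ (by rw [cm, cm, ht, ht, mm, mm])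
        (gen_rels.2.2.2 i j hij)
  obtain ⟨e⟩ := S3335.result 7 (by norm_num)
  let f₀ : PresentedGroup (S3335.rels 5) →* Cfsg.PSU 3 F 5 := PresentedGroup.toGroup hrels
  refine ⟨f₀.comp e.symm.toMonoidHom, ?_⟩
  set f := f₀.comp e.symm.toMonoidHom
  rw [← MonoidHom.ker_eq_bot_iff]
  haveI : IsSimpleGroup (alternatingGroup (Fin 7)) := alternatingGroup.isSimpleGroup (by simp)
  refine ((MonoidHom.normal_ker f).eq_bot_or_eq_top).resolve_right fun htop => ?_
  have h : f (e (PresentedGroup.of 0)) = 1 := by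
    rw [← MonoidHom.mem_ker, htop]; trivial
  simp only [f, MonoidHom.comp_apply, MulEquiv.coe_toMonoidHom, MulEquiv.symm_apply_apply] at h
  rw [show f₀ (PresentedGroup.of 0) = T 0 from PresentedGroup.toGroup.of hrels,
    QuotientGroup.eq_one_iff, mem_center_iff hF (by norm_num)] at h
  obtain ⟨c, hc⟩ := h
  apply gen_zero_not_scal
  ext1 i j
  have hφ : Function.Injective φ := by
    intro a b hab
    have : (a.re • (1 : F) + a.im • r) = b.re • (1 : F) + b.im • r := hab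
    rw [Algebra.smul_def, Algebra.smul_def, Algebra.smul_def, Algebra.smul_def, mul_one, mul_one]
      at this
    have hinj := (algebraMap (ZMod 5) F).injective
    have him : a.im = b.im := by
      by_contra hne
      have hd : (algebraMap (ZMod 5) F) (a.im - b.im) ≠ 0 := fun h0 =>
        hne (sub_eq_zero.1 (hinj (h0.trans (map_zero _).symm)))
      have hrr : r = algebraMap (ZMod 5) F ((b.re - a.re) * (a.im - b.im)⁻¹) := by
        rw [map_mul, map_inv₀, map_sub]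
        field_simp
        rw [map_sub] at hd ⊢
        linear_combination this
      refine sq_ne_two ((b.re - a.re) * (a.im - b.im)⁻¹) (hinj ?_)
      rw [map_mul, ← hrr, hr, map_ofNat]
    refine QuadraticAlgebra.ext ?_ him
    rw [him] at this
    exact hinj (add_right_cancel this)
  have hcol : ∀ i j, φ (gen 0 i j) = if i = j then c else 0 := by
    intro i j
    have := congrFun (hc (Pi.single j 1)) i
    change (((gen 0).map φ) *ᵥ Pi.single j 1) i = (c • Pi.single j 1 : Fin 3 → F) i at this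
    simpa [Pi.single_apply] using this
  apply hφ
  rw [hcol, Matrix.diagonal_apply]
  by_cases hij : i = j
  · subst hij; rw [if_pos rfl, if_pos rfl, hcol, if_pos rfl]
  · rw [if_neg hij, if_neg hij, map_zero]

end Cfsg.Agent.PSU35
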