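import Mathlib
import Cfsg.Agent.S2366
import Cfsg.Agent.Lib.Unitary.Center

/-!
# Elements of order 7 in `PSU₃(5)`
-/

set_option autoImplicit false

namespace Cfsg.Agent.PSU35

open Matrix Polynomial Cfsg.Agent.Unitary

variable {F : Type*} [Field F] [Fintype F] (hF : Fintype.card F = 5 ^ 2) [CharP F 5]

include hF in
theorem order_mem (x : Cfsg.PSU 3 F 5) :
    orderOf x ∣ 6 ∨ orderOf x ∣ 10 ∨ orderOf x ∣ 8 ∨ orderOf x ∣ 7 := by
  haveI : Fact (Nat.Prime 5) := ⟨Nat.prime_five⟩
  have h := Cfsg.Agent.S2366.result 5 (by norm_num) 5 hF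
  have hx : orderOf x ∈ Set.range (orderOf : Cfsg.PSU 3 F 5 → ℕ) := ⟨x, rfl⟩
  rw [h] at hx
  simp only [Set.mem_union, Set.mem_setOf_eq, show Nat.gcd 3 (5 + 1) = 3 by decide] at hx
  norm_num at hx
  tauto

include hF in
/-- A matrix of order 7 over the field with 25 elements does not share its characteristic polynomial
with its inverse. -/
theorem charpoly_ne_inv (M : Matrix (Fin 3) (Fin 3) F) (h7 : M ^ 7 = 1) (hM : M ≠ 1) :
    M.charpoly ≠ (M ^ 6).charpoly := by
  intro heq
  let K := AlgebraicClosure F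
  let e := algebraMap F K
  set N := M.map e with hN
  have hN7 : N ^ 7 = 1 := by
    rw [hN, ← RingHom.mapMatrix_apply, ← map_pow, h7, map_one]
  have hNc : N.charpoly = M.charpoly.map e := Matrix.charpoly_map M e
  have hN6 : (N ^ 6).charpoly = N.charpoly := by
    rw [hNc, heq, hN, ← RingHom.mapMatrix_apply, ← map_pow, RingHom.mapMatrix_apply,
      Matrix.charpoly_map]
  have hroot7 : ∀ a ∈ N.charpoly.roots, a ^ 7 = 1 := by
    intro a ha
    have hs : a ∈ spectrum K N :=
      Matrix.mem_spectrum_iff_isRoot_charpoly.2 (mem_roots'.1 ha).2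
    have hp := spectrum.pow_mem_pow N 7 hs
    rw [hN7, spectrum.one_eq] at hp
    exact hp
  obtain ⟨a, ha, ha1⟩ : ∃ a ∈ N.charpoly.roots, a ≠ 1 := by
    by_contra hall
    push Not at hall
    have hsplit := IsAlgClosed.splits N.charpoly
    have hcard : N.charpoly.roots = Multiset.replicate 3 1 := by
      refine Multiset.eq_replicate.2 ⟨?_, hall⟩
      rw [Polynomial.splits_iff_card_roots.1 hsplit, Matrix.charpoly_natDegree_eq_dim,
        Fintype.card_fin]
    have hp := hsplit.eq_prod_roots_of_monic N.charpoly_monic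
    rw [hcard] at hp
    have hc := Matrix.aeval_self_charpoly N
    rw [hp] at hc
    simp [Multiset.map_replicate, Multiset.prod_replicate] at hc
    have h5 : N ^ 5 = 1 := by
      haveI : CharP K 5 := charP_of_injective_algebraMap (algebraMap F K).injective 5
      haveI : Fact (Nat.Prime 5) := ⟨Nat.prime_five⟩
      have h := sub_pow_char_of_commute (p := 5) (x := N) (y := 1) (Commute.one_right N)
      have h3 : (N - 1) ^ 3 = 0 := by rw [pow_succ, pow_two, mul_assoc]; exact hc
      rw [show (N - 1) ^ 5 = (N - 1) ^ 3 * (N - 1) ^ 2 from pow_add _ 3 2, h3, zero_mul, one_pow]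
        at h
      exact sub_eq_zero.1 h.symm
    have h1 : N = 1 := by
      calc N = N ^ 15 := by
            rw [show (15 : ℕ) = 14 + 1 from rfl, pow_succ, show (14 : ℕ) = 7 * 2 from rfl,
              pow_mul, hN7, one_pow, one_mul]
        _ = 1 := by rw [show (15 : ℕ) = 5 * 3 from rfl, pow_mul, h5, one_pow]
    refine hM (Matrix.map_injective e.injective (show M.map e = (1 : Matrix (Fin 3) (Fin 3) F).map e from ?_))
    rw [← hN, h1, Matrix.map_one _ (map_zero e) (map_one e)]
  have hfrob : ∀ b ∈ N.charpoly.roots, b ^ 25 ∈ N.charpoly.roots := by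
    intro b hb
    rw [mem_roots (Matrix.charpoly_monic N).ne_zero, IsRoot.def, hNc, eval_map] at hb ⊢
    have := congrArg (fun z : K => z ^ 25) hb
    simp only [zero_pow (show 25 ≠ 0 by norm_num)] at this
    rw [← this, eval₂_eq_sum_range, eval₂_eq_sum_range]
    haveI : CharP K 5 := charP_of_injective_algebraMap (algebraMap F K).injective 5
    haveI : Fact (Nat.Prime 5) := ⟨Nat.prime_five⟩
    rw [show (25 : ℕ) = 5 ^ 2 from rfl, sum_pow_char_pow]
    refine Finset.sum_congr rfl fun i _ => ?_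
    rw [mul_pow, ← map_pow e, ← hF, FiniteField.pow_card, hF, ← pow_mul, ← pow_mul,
      Nat.mul_comm i]
  have hinv : a ^ 6 ∈ N.charpoly.roots := by
    have hs : a ∈ spectrum K N :=
      Matrix.mem_spectrum_iff_isRoot_charpoly.2 (mem_roots'.1 ha).2
    have hp := spectrum.pow_mem_pow N 6 hs
    rw [← hN6, mem_roots (Matrix.charpoly_monic _).ne_zero]
    exact Matrix.mem_spectrum_iff_isRoot_charpoly.1 hp
  have hord : orderOf a = 7 := by
    haveI : Fact (Nat.Prime 7) := ⟨by norm_num⟩
    exact orderOf_eq_prime (hroot7 a ha) ha1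
  have hmod : ∀ m, a ^ m = a ^ (m % 7) := fun m => hord ▸ (pow_mod_orderOf a m).symm
  have h4 : a ^ 4 ∈ N.charpoly.roots := by
    have h := hfrob a ha
    rwa [hmod] at h
  have h2 : a ^ 2 ∈ N.charpoly.roots := by
    have h := hfrob _ h4
    rwa [← pow_mul, hmod] at h
  have hne : ∀ i j, i < 7 → j < 7 → a ^ i = a ^ j → i = j := fun i j hi hj h =>
    pow_injOn_Iio_orderOf (by simpa [hord] using hi) (by simpa [hord] using hj) h
  classical
  have hsub : ({a ^ 1, a ^ 4, a ^ 2, a ^ 6} : Finset K) ⊆ N.charpoly.roots.toFinset := by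
    intro x hx
    simp only [Finset.mem_insert, Finset.mem_singleton] at hx
    rw [Multiset.mem_toFinset]
    rcases hx with rfl | rfl | rfl | rfl
    · rwa [pow_one]
    · exact h4
    · exact h2
    · exact hinv
  have hc := (Finset.card_le_card hsub).trans
    ((Multiset.toFinset_card_le _).trans (card_roots' _))
  rw [Matrix.charpoly_natDegree_eq_dim, Fintype.card_fin] at hc
  rw [Finset.card_insert_of_notMem, Finset.card_insert_of_notMem, Finset.card_insert_of_notMem,
    Finset.card_singleton] at hc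
  · omega
  all_goals
    simp only [Finset.mem_insert, Finset.mem_singleton, not_or]
    repeat' constructor
    all_goals intro h
    all_goals have := hne _ _ (by norm_num) (by norm_num) h
    all_goals omega

/-- Conjugates in the special linear group share their characteristic polynomial. -/
theorem charpoly_conj {K : Type*} [Field K] {n : Type*} [DecidableEq n] [Fintype n]
    (S g : Matrix.SpecialLinearGroup n K) :
    ((S * g * S⁻¹ : Matrix.SpecialLinearGroup n K) : Matrix n n K).charpoly =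
      (g : Matrix n n K).charpoly := by
  have h : ((S⁻¹ : Matrix.SpecialLinearGroup n K) : Matrix n n K) * (S : Matrix n n K) = 1 := by
    rw [← Matrix.SpecialLinearGroup.coe_mul, inv_mul_cancel, Matrix.SpecialLinearGroup.coe_one]
  rw [Matrix.SpecialLinearGroup.coe_mul, Matrix.charpoly_mul_comm,
    Matrix.SpecialLinearGroup.coe_mul, ← Matrix.mul_assoc, h, Matrix.one_mul]

include hF in
/-- An element of order 7 of `PSU₃(5)` is not conjugate to its inverse. -/
theorem not_inverted (x t : Cfsg.PSU 3 F 5) (hx : orderOf x = 7) : t * x * t⁻¹ ≠ x⁻¹ := by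
  obtain ⟨g₀, hg₀⟩ := QuotientGroup.mk'_surjective (Subgroup.center (SU 3 F 5)) x
  obtain ⟨s, hs⟩ := QuotientGroup.mk'_surjective (Subgroup.center (SU 3 F 5)) t
  have hcard : Nat.card (Subgroup.center (SU 3 F 5)) = 3 := card_center hF (by norm_num)
  have hz3 : ∀ z ∈ Subgroup.center (SU 3 F 5), z ^ 3 = 1 := fun z hz => by
    have := pow_card_eq_one' (G := Subgroup.center (SU 3 F 5)) (x := ⟨z, hz⟩)
    rw [hcard] at this
    exact congrArg Subtype.val this
  -- replace the lift by one of order 7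
  set g := g₀ ^ 15 with hg
  have hgx : QuotientGroup.mk' (Subgroup.center (SU 3 F 5)) g = x := by
    rw [hg, map_pow, hg₀, ← pow_mod_orderOf, hx, show 15 % 7 = 1 from rfl, pow_one]
  have hg7 : g ^ 7 = 1 := by
    have h : g₀ ^ 7 ∈ Subgroup.center (SU 3 F 5) := by
      rw [← QuotientGroup.eq_one_iff, ← QuotientGroup.mk'_apply, map_pow, hg₀, ← hx,
        pow_orderOf_eq_one]
    rw [hg, ← pow_mul, show 15 * 7 = 7 * (3 * 5) from rfl, pow_mul, pow_mul, hz3 _ h, one_pow]
  intro hinv
  have hz : s * g * s⁻¹ * g ∈ Subgroup.center (SU 3 F 5) := by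
    rw [← QuotientGroup.eq_one_iff, ← QuotientGroup.mk'_apply, map_mul, map_mul, map_mul,
      map_inv, hgx, hs, hinv, inv_mul_cancel]
  have hc : s * g * s⁻¹ = g ^ 6 := by
    have hg6 : g⁻¹ = g ^ 6 := inv_eq_of_mul_eq_one_right (by rw [← pow_succ', hg7])
    rw [← hg6]
    set z := s * g * s⁻¹ * g with hzdef
    have he : s * g * s⁻¹ = z * g⁻¹ := by rw [hzdef, mul_inv_cancel_right]
    have h7 : z ^ 7 = 1 := by
      have : (s * g * s⁻¹) ^ 7 = (z * g⁻¹) ^ 7 := by rw [he]
      rw [conj_pow, hg7, mul_one, mul_inv_cancel, ← Subgroup.mem_center_iff.1 hz g⁻¹,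
        (show Commute g⁻¹ z from Subgroup.mem_center_iff.1 hz g⁻¹).mul_pow, _root_.inv_pow, hg7, inv_one,
        one_mul] at this
      exact this.symm
    have hz1 : z = 1 := by
      rw [← pow_one z, show 1 = Nat.gcd 3 7 from rfl]
      exact pow_gcd_eq_one.2 ⟨hz3 z hz, h7⟩
    rw [he, hz1, one_mul]
  have cm : ∀ M N : Matrix.SpecialLinearGroup (Fin 3) F,
      ((M * N : Matrix.SpecialLinearGroup (Fin 3) F) : Matrix (Fin 3) (Fin 3) F) =
        (M : Matrix (Fin 3) (Fin 3) F) * N := fun _ _ => rfl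
  set M : Matrix (Fin 3) (Fin 3) F := (g.1 : Matrix (Fin 3) (Fin 3) F)
  have hpow : ∀ n : ℕ, (((g ^ n : SU 3 F 5) : Matrix.SpecialLinearGroup (Fin 3) F) :
      Matrix (Fin 3) (Fin 3) F) = M ^ n := fun n => by
    induction n with
    | zero => rw [pow_zero, pow_zero]; rfl
    | succ n ih => rw [pow_succ, pow_succ, Subgroup.coe_mul, cm, ih]
  have hM7 : M ^ 7 = 1 := by
    have h := hpow 7
    rw [hg7] at h
    exact h.symm
  refine charpoly_ne_inv hF M hM7 (fun h1 => ?_) ?_
  · have : g = 1 := Subtype.ext (Subtype.ext h1)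
    rw [← hgx, this, map_one, orderOf_one] at hx
    norm_num at hx
  · have h1 := hpow 6
    rw [← hc] at h1
    rw [← h1, Subgroup.coe_mul, Subgroup.coe_mul, Subgroup.coe_inv]
    exact (charpoly_conj _ _).symm

include hF in
/-- The normalizer of a subgroup of order 7 of a subgroup of `PSU₃(5)` has order dividing 21. -/
theorem card_normalizer_dvd (H : Subgroup (Cfsg.PSU 3 F 5)) (P : Subgroup H) (hP : Nat.card P = 7)
    (h49 : ¬ 49 ∣ Nat.card H) :
    Nat.card (Subgroup.normalizer (P : Set H)) ∣ 21 := by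
  haveI : Fact (Nat.Prime 7) := ⟨by norm_num⟩
  set N := Subgroup.normalizer (P : Set H) with hN
  haveI : (P.subgroupOf N).Normal := Subgroup.normal_in_normalizer
  have hle : P ≤ N := Subgroup.le_normalizer
  let φ : N →* MulAut (P.subgroupOf N) := MulAut.conjNormal
  have hcP : Nat.card (P.subgroupOf N) = 7 := by
    rw [Nat.card_congr (Subgroup.subgroupOfEquivOfLe hle).toEquiv, hP]
  haveI : IsCyclic (P.subgroupOf N) := isCyclic_of_prime_card hcP
  have hA : Nat.card (MulAut (P.subgroupOf N)) = 6 := by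
    rw [IsCyclic.card_mulAut, hcP, Nat.totient_prime (by norm_num : Nat.Prime 7)]
  obtain ⟨x, hx⟩ := exists_prime_orderOf_dvd_card' (G := P.subgroupOf N) 7 (hcP.symm ▸ dvd_rfl)
  have hx' : orderOf (((x : N) : H) : Cfsg.PSU 3 F 5) = 7 := by
    rw [Subgroup.orderOf_coe, Subgroup.orderOf_coe, Subgroup.orderOf_coe, hx]
  -- the centralizer is a 7-group
  have hker : ∀ r : ℕ, r.Prime → r ∣ Nat.card φ.ker → r = 7 := by
    intro r hr hdvd
    by_contra hne
    haveI : Fact r.Prime := ⟨hr⟩
    obtain ⟨y, hy⟩ := exists_prime_orderOf_dvd_card' r hdvd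
    have hcomm : Commute (y : N) (x : N) := by
      have h : φ (y : N) = 1 := y.2
      have h' := DFunLike.congr_fun h x
      have h'' : ((y : N) * (x : N) * (y : N)⁻¹ : N) = (x : N) := by
        have := congrArg (Subtype.val : P.subgroupOf N → N) h'
        simpa [φ] using this
      exact mul_inv_eq_iff_eq_mul.1 h''
    have hyx : orderOf ((((y : N) * (x : N) : N) : H) : Cfsg.PSU 3 F 5) = r * 7 := by
      rw [Subgroup.orderOf_coe, Subgroup.orderOf_coe, hcomm.orderOf_mul_eq_mul_orderOf_of_coprime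
        (by rw [Subgroup.orderOf_coe, Subgroup.orderOf_coe, hy, hx]
            exact (Nat.coprime_primes hr (by norm_num)).2 hne),
        Subgroup.orderOf_coe, Subgroup.orderOf_coe, hy, hx]
    have h := order_mem hF ((((y : N) * (x : N) : N) : H) : Cfsg.PSU 3 F 5)
    rw [hyx] at h
    have h2 := hr.two_le
    rcases h with h | h | h | h <;> have := Nat.le_of_dvd (by norm_num) h <;> omega
  -- no involution inverts
  have hrange : ¬ 2 ∣ Nat.card φ.range := by
    intro h2
    haveI : Fact (Nat.Prime 2) := ⟨Nat.prime_two⟩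
    obtain ⟨σ, hσ⟩ := exists_prime_orderOf_dvd_card' 2 h2
    obtain ⟨t, ht⟩ := σ.2
    have hσ2 : (σ : MulAut (P.subgroupOf N)) * σ = 1 := by
      rw [← pow_two, ← hσ, ← Subgroup.orderOf_coe, pow_orderOf_eq_one]
    obtain ⟨m, hm⟩ : ∃ m : ℤ, ∀ y, (σ : MulAut (P.subgroupOf N)) y = y ^ m :=
      MonoidHom.map_cyclic (σ : MulAut (P.subgroupOf N)).toMonoidHom
    have hxx : x ^ (m * m) = x ^ (1 : ℤ) := by
      rw [_root_.zpow_mul, ← hm, ← hm]
      simpa using DFunLike.congr_fun hσ2 x
    rw [zpow_eq_zpow_iff_modEq, hx] at hxx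
    have hσx : (σ : MulAut (P.subgroupOf N)) x ≠ x⁻¹ := by
      intro h
      refine not_inverted hF _ (((t : N) : H) : Cfsg.PSU 3 F 5) hx' ?_
      rw [← ht] at h
      have := congrArg (fun y : P.subgroupOf N => (((y : N) : H) : Cfsg.PSU 3 F 5)) h
      simpa [φ] using this
    have hcases : x ^ m = x ^ (1 : ℤ) ∨ x ^ m = x ^ (-1 : ℤ) := by
      have hdvd : (7 : ℤ) ∣ (m - 1) * (m + 1) := by
        have h := Int.ModEq.dvd hxx.symm
        rw [show (m - 1) * (m + 1) = m * m - 1 by ring]
        exact_mod_cast h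
      rcases (Nat.prime_iff_prime_int.1 (by norm_num : Nat.Prime 7)).dvd_mul.1 hdvd with h | h
      · left
        rw [zpow_eq_zpow_iff_modEq, hx]
        exact (Int.modEq_iff_dvd.2 (by simpa using h)).symm
      · right
        rw [zpow_eq_zpow_iff_modEq, hx]
        exact (Int.modEq_iff_dvd.2 (by simpa using h)).symm
    rcases hcases with h | h
    · have hσ1 : (σ : MulAut (P.subgroupOf N)) = 1 := by
        ext y : 1
        obtain ⟨k, hk⟩ : y ∈ Subgroup.zpowers x :=
          (mem_zpowers_of_prime_card hcP (by intro h1; rw [h1, orderOf_one] at hx; norm_num at hx))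
        subst hk
        rw [map_zpow, hm, h, zpow_one]
        rfl
      rw [← Subgroup.orderOf_coe, hσ1, orderOf_one] at hσ
      norm_num at hσ
    · exact hσx (by rw [hm, h, _root_.zpow_neg_one])
  have hkr : Nat.card φ.ker * Nat.card φ.range = Nat.card N := by
    rw [← Subgroup.index_ker]
    exact Subgroup.card_mul_index _
  have hker7 : Nat.card φ.ker ∣ 7 := by
    have hpos : Nat.card φ.ker ≠ 0 := Nat.card_pos.ne'
    have h := Nat.eq_prime_pow_of_unique_prime_dvd hpos (p := 7) fun hr hd => hker _ hr hd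
    set k := (Nat.card φ.ker).primeFactorsList.length
    rcases Nat.lt_or_ge k 2 with hk | hk
    · rw [h]
      interval_cases k <;> norm_num
    · exfalso
      apply h49
      calc 49 = 7 ^ 2 := by norm_num
        _ ∣ Nat.card φ.ker := h ▸ pow_dvd_pow 7 hk
        _ ∣ Nat.card N := Subgroup.card_subgroup_dvd_card _
        _ ∣ Nat.card H := Subgroup.card_subgroup_dvd_card _
  have hr3 : Nat.card φ.range ∣ 3 := by
    have h6 : Nat.card φ.range ∣ 2 * 3 :=
      (Subgroup.card_subgroup_dvd_card _).trans (hA.symm ▸ dvd_rfl : Nat.card (MulAut (P.subgroupOf N)) ∣ 6)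
    exact ((Nat.prime_two.coprime_iff_not_dvd.2 hrange).symm).dvd_of_dvd_mul_left h6
  rw [← hkr]
  exact Nat.mul_dvd_mul hker7 hr3

end Cfsg.Agent.PSU35
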