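import Mathlib
import Cfsg.Agent.Lib.Unitary.Simple
import Cfsg.Agent.Lib.Unitary.Center

/-!
# `SU₃(5)` on the 126 isotropic points: subgroups of index below 50
-/

set_option autoImplicit false

namespace Cfsg.Agent.PSU35

open Matrix Cfsg.Agent.Unitary MulAction

variable {F : Type*} [Field F] [Fintype F] (hF : Fintype.card F = 5 ^ 2)

include hF in
theorem card_SU3 : Nat.card (SU 3 F 5) = 378000 := by
  have h := card_SU_mul (F := F) hF (n := 3) (by norm_num)
  rw [card_GU hF 3] at h
  simp [Finset.prod_range_succ, Nat.even_iff] at h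
  omega

include hF in
theorem card_isoPt : Nat.card (IsoPt hF 3) = 126 := by
  classical
  haveI : Finite (IsoPt hF 3) := by
    haveI : Finite (Projectivization F (Fin 3 → F)) :=
      Finite.of_surjective (fun v : {v : Fin 3 → F // v ≠ 0} => Projectivization.mk F v.1 v.2)
        (fun p => ⟨⟨p.rep, p.rep_nonzero⟩, Projectivization.mk_rep p⟩)
    unfold IsoPt
    infer_instance
  let f : Option (IsoPt hF 3 × Fˣ) → {v : Fin 3 → F // herm 5 v v = 0} := fun o =>
    o.elim ⟨0, herm_zero_left _⟩ fun pa =>
      ⟨(pa.2 : F) • pa.1.1.rep, by rw [herm_smul_left, herm_smul_right hF, pa.1.2]; ring⟩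
  have hf : Function.Bijective f := by
    constructor
    · rintro (_ | ⟨p, a⟩) (_ | ⟨p', a'⟩) h
      · rfl
      · have := congrArg Subtype.val h
        exact absurd (this : (0 : Fin 3 → F) = _).symm
          (smul_ne_zero a'.ne_zero p'.1.rep_nonzero)
      · have := congrArg Subtype.val h
        exact absurd (this : _ = (0 : Fin 3 → F)) (smul_ne_zero a.ne_zero p.1.rep_nonzero)
      · have h1 : (a : F) • p.1.rep = (a' : F) • p'.1.rep := congrArg Subtype.val h
        have hp : p = p' := Subtype.ext (by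
          rw [← Projectivization.mk_rep p.1, ← Projectivization.mk_rep p'.1]
          exact (Projectivization.mk_eq_mk_iff' F _ _ _ _).2 ⟨(a : F)⁻¹ * a', by
            rw [mul_smul, ← h1, smul_smul, inv_mul_cancel₀ a.ne_zero, one_smul]⟩)
        subst hp
        rw [Units.ext (smul_left_injective F p.1.rep_nonzero h1)]
    · rintro ⟨v, hv⟩
      by_cases h0 : v = 0
      · exact ⟨none, Subtype.ext h0.symm⟩
      obtain ⟨a, ha⟩ := (Projectivization.mk_eq_mk_iff' F _ _
        (Projectivization.mk F v h0).rep_nonzero h0).1 (Projectivization.mk_rep _)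
      have hp : herm 5 (Projectivization.mk F v h0).rep (Projectivization.mk F v h0).rep = 0 := by
        rw [← ha, herm_smul_left, herm_smul_right hF, hv]; ring
      have ha0 : a ≠ 0 := by
        rintro rfl
        exact (Projectivization.mk F v h0).rep_nonzero (by rw [← ha, zero_smul])
      refine ⟨some (⟨_, hp⟩, (Units.mk0 a ha0)⁻¹), Subtype.ext ?_⟩
      show ((Units.mk0 a ha0)⁻¹ : Fˣ).val • (Projectivization.mk F v h0).rep = v
      rw [← ha, smul_smul, Units.val_inv_eq_inv_val, Units.val_mk0, inv_mul_cancel₀ ha0, one_smul]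
  have h := Nat.card_congr (Equiv.ofBijective f hf)
  rw [Finite.card_option, Nat.card_prod, Nat.card_units, Nat.card_eq_fintype_card (α := F), hF,
    show Nat.card {v : Fin 3 → F // herm 5 v v = 0} = nvec 3 F 5 0 from rfl,
    nvec_zero_formula hF 3] at h
  simp [Nat.even_iff] at h
  omega

include hF in
theorem finite_isoPt : Finite (IsoPt hF 3) :=
  Nat.finite_of_card_ne_zero (by rw [card_isoPt hF]; norm_num)

include hF in
theorem pow_card_sub_one (a : F) (ha : a ≠ 0) : a ^ 24 = 1 := by
  have := FiniteField.pow_card_sub_one_eq_one a ha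
  rwa [hF] at this

include hF in
/-- A fifth root of unity in `SU₃(5)` fixing two isotropic points is trivial. -/
theorem eq_one_of_fix_two {g : SU 3 F 5} (h5 : g ^ 5 = 1) {p p' : IsoPt hF 3} (hne : p ≠ p')
    (hp : g • p = p) (hp' : g • p' = p') : g = 1 := by
  set u := p.1.rep with hu
  set v := p'.1.rep with hv
  have hind : ∀ a b : F, a • u + b • v = 0 → a = 0 ∧ b = 0 := by
    intro a b h
    by_cases hb : b = 0
    · subst hb
      rw [zero_smul, add_zero] at h
      exact ⟨(smul_eq_zero.1 h).resolve_right p.1.rep_nonzero, rfl⟩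
    · refine absurd ?_ (ne_smul_of_ne hF (Ne.symm hne) (-(b⁻¹ * a)))
      show v = -(b⁻¹ * a) • u
      have : b • v = -(a • u) := by rw [eq_neg_iff_add_eq_zero, add_comm]; exact h
      calc v = b⁻¹ • (b • v) := by rw [smul_smul, inv_mul_cancel₀ hb, one_smul]
        _ = _ := by rw [this, smul_neg, smul_smul, neg_smul]
  -- the linear map `y ↦ (h y u, h y v)`
  let φ : (Fin 3 → F) →ₗ[F] F × F :=
    { toFun := fun y => (herm 5 y u, herm 5 y v)
      map_add' := fun y z => by simp [herm_add_left]
      map_smul' := fun a y => by simp [herm_smul_left] }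
  obtain ⟨w, hw, hw0⟩ : ∃ w ∈ LinearMap.ker φ, w ≠ 0 := by
    refine (LinearMap.ker φ).exists_mem_ne_zero_of_ne_bot fun h => ?_
    have := LinearMap.finrank_le_finrank_of_injective (LinearMap.ker_eq_bot.1 h)
    simp at this
  have hwu : herm 5 w u = 0 := congrArg Prod.fst (LinearMap.mem_ker.1 hw)
  have hwv : herm 5 w v = 0 := congrArg Prod.snd (LinearMap.mem_ker.1 hw)
  have huv : herm 5 u v ≠ 0 := by
    intro h
    -- otherwise `φ` has rank two and a two-dimensional kernel
    have hsurj : Function.Surjective φ := by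
      by_contra hns
      have hlt : LinearMap.range φ < ⊤ := lt_top_iff_ne_top.2 fun h' =>
        hns (LinearMap.range_eq_top.1 h')
      obtain ⟨χ, hχ0, hχ⟩ := Submodule.exists_le_ker_of_lt_top _ hlt
      set α := χ (1, 0)
      set β := χ (0, 1)
      have hdec : ∀ z : F × F, χ z = z.1 * α + z.2 * β := by
        intro z
        have : z = z.1 • ((1, 0) : F × F) + z.2 • ((0, 1) : F × F) := by ext <;> simp
        conv_lhs => rw [this]
        rw [map_add, map_smul, map_smul]; rfl
      have hz : α ^ 5 • u + β ^ 5 • v = 0 := by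
        refine eq_zero_of_herm hF fun y => ?_
        have h1 := LinearMap.mem_ker.1 (hχ (LinearMap.mem_range_self φ y))
        rw [hdec] at h1
        have h2 : herm 5 y (α ^ 5 • u + β ^ 5 • v) = 0 := by
          rw [herm_add_right hF, herm_smul_right hF, herm_smul_right hF, pow_q_pow_q hF,
            pow_q_pow_q hF]
          simpa [φ, mul_comm] using h1
        exact (herm_eq_zero_comm hF).1 h2
      obtain ⟨h1, h2⟩ := hind _ _ hz
      exact hχ0 (LinearMap.ext fun z => by
        rw [hdec, eq_zero_of_pow_eq_zero h1, eq_zero_of_pow_eq_zero h2]; simp)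
    have hr := LinearMap.finrank_range_add_finrank_ker φ
    rw [LinearMap.range_eq_top.2 hsurj] at hr
    simp at hr
    have hli : LinearIndependent F ![u, v] := LinearIndependent.pair_iff.2 hind
    have hle : Submodule.span F (Set.range ![u, v]) ≤ LinearMap.ker φ := by
      rw [Submodule.span_le]
      rintro x ⟨i, rfl⟩
      fin_cases i
      · exact LinearMap.mem_ker.2 (Prod.ext p.2 h)
      · exact LinearMap.mem_ker.2 (Prod.ext ((herm_eq_zero_comm hF).1 h) p'.2)
    have := Submodule.finrank_mono hle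
    rw [finrank_span_eq_card hli, Fintype.card_fin] at this
    omega
  obtain ⟨a, ha⟩ : ∃ a : F, a • u = g • u := (Projectivization.mk_eq_mk_iff' F _ _
    ((smul_ne_zero_iff_ne g).2 p.1.rep_nonzero) p.1.rep_nonzero).1 (by
      rw [Projectivization.mk_rep, ← smul_mk_SU g p.1.rep_nonzero, Projectivization.mk_rep]
      exact congrArg Subtype.val hp)
  obtain ⟨b, hb⟩ : ∃ b : F, b • v = g • v := (Projectivization.mk_eq_mk_iff' F _ _
    ((smul_ne_zero_iff_ne g).2 p'.1.rep_nonzero) p'.1.rep_nonzero).1 (by
      rw [Projectivization.mk_rep, ← smul_mk_SU g p'.1.rep_nonzero, Projectivization.mk_rep]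
      exact congrArg Subtype.val hp')
  have hne0 : ∀ {a : F} {x : Fin 3 → F}, x ≠ 0 → a • x = g • x → a ≠ 0 := by
    rintro a x hx h rfl
    exact (smul_ne_zero_iff_ne g).2 hx (by rw [← h, zero_smul])
  have hli3 : LinearIndependent F ![u, v, w] := by
    rw [Fintype.linearIndependent_iff]
    intro c hc
    simp [Fin.sum_univ_three] at hc
    have hv0 : herm 5 v v = 0 := p'.2
    have hu0 : herm 5 u u = 0 := p.2
    have h1 := congrArg (fun x => herm 5 x v) hc
    have h2 := congrArg (fun x => herm 5 x u) hc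
    simp only [herm_add_left, herm_smul_left, herm_zero_left, hwv, hv0, mul_zero, add_zero] at h1
    simp only [herm_add_left, herm_smul_left, herm_zero_left, hwu, hu0, mul_zero, add_zero,
      zero_add] at h2
    have hc0 : c 0 = 0 := (mul_eq_zero.1 h1).resolve_right huv
    have hc1 : c 1 = 0 :=
      (mul_eq_zero.1 h2).resolve_right fun h => huv ((herm_eq_zero_comm hF).1 h)
    rw [hc0, hc1, zero_smul, zero_smul, zero_add, zero_add] at hc
    have hc2 : c 2 = 0 := (smul_eq_zero.1 hc).resolve_right hw0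
    intro i; fin_cases i <;> assumption
  let B := basisOfLinearIndependentOfCardEqFinrank hli3 (by simp)
  have hB : ∀ i, B i = ![u, v, w] i := fun i => by simp [B]
  obtain ⟨c, hc⟩ : ∃ c : F, c • w = g • w := by
    have hgu : herm 5 (g • w) u = 0 := by
      have h := herm_smul_SU g w u
      rw [← ha, herm_smul_right hF, hwu, mul_eq_zero] at h
      exact h.resolve_left (pow_ne_zero _ (hne0 p.1.rep_nonzero ha))
    have hgv : herm 5 (g • w) v = 0 := by
      have h := herm_smul_SU g w v
      rw [← hb, herm_smul_right hF, hwv, mul_eq_zero] at h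
      exact h.resolve_left (pow_ne_zero _ (hne0 p'.1.rep_nonzero hb))
    refine ⟨B.repr (g • w) 2, ?_⟩
    have hs := B.sum_repr (g • w)
    simp only [Fin.sum_univ_three, hB] at hs
    simp at hs
    set c0 := B.repr (g • w) 0
    set c1 := B.repr (g • w) 1
    rw [← hs] at hgu hgv
    simp only [herm_add_left, herm_smul_left, hwu, hwv, show herm 5 u u = 0 from p.2,
      show herm 5 v v = 0 from p'.2, mul_zero, add_zero, zero_add] at hgu hgv
    have hc0 : c0 = 0 := (mul_eq_zero.1 hgv).resolve_right huv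
    have hc1 : c1 = 0 :=
      (mul_eq_zero.1 hgu).resolve_right fun h => huv ((herm_eq_zero_comm hF).1 h)
    rw [hc0, hc1, zero_smul, zero_smul, zero_add, zero_add] at hs
    exact hs
  have key : ∀ (a : F) (x : Fin 3 → F), x ≠ 0 → a • x = g • x → g ^ 24 • x = x := by
    intro a x hx h
    have hn : ∀ n : ℕ, g ^ n • x = a ^ n • x := by
      intro n
      induction n with
      | zero => simp
      | succ n ih => rw [pow_succ', mul_smul, ih, smul_comm g, ← h, smul_smul, ← pow_succ]
    rw [hn, pow_card_sub_one hF a (hne0 hx h), one_smul]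
  have h24 : g ^ 24 = 1 := by
    apply eq_of_smul_eq_SU
    intro y
    rw [one_smul, ← B.sum_repr y, Finset.smul_sum]
    refine Finset.sum_congr rfl fun i _ => ?_
    rw [smul_comm, hB i]
    congr 1
    fin_cases i
    · exact key a u p.1.rep_nonzero ha
    · exact key b v p'.1.rep_nonzero hb
    · exact key c w hw0 hc
  calc g = g ^ 25 := by rw [pow_succ, h24, one_mul]
    _ = (g ^ 5) ^ 5 := by rw [← pow_mul]
    _ = 1 := by rw [h5, one_pow]

include hF in
/-- A subgroup of small index of `SU₃(5)` which contains the centre is transitive on the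
isotropic points, so its index divides 1000. -/
theorem index_dvd_of_lt (K : Subgroup (SU 3 F 5)) (hK : K.index < 50)
    (hZ : Subgroup.center (SU 3 F 5) ≤ K) : K.index ∣ 1000 := by
  classical
  haveI : Fact (Nat.Prime 5) := ⟨Nat.prime_five⟩
  haveI := finite_isoPt hF
  haveI : IsPretransitive (SU 3 F 5) (IsoPt hF 3) := isPretransitive_points hF
  have hG := card_SU3 hF
  have hKi := K.card_mul_index
  rw [hG] at hKi
  have hpt := card_isoPt hF
  have hst : ∀ x : IsoPt hF 3, Nat.card (stabilizer K x) ∣ 3000 := by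
    intro x
    have h := Subgroup.card_mul_index (stabilizer (SU 3 F 5) x)
    rw [index_stabilizer_of_transitive, hpt, hG] at h
    have h1 : Nat.card (stabilizer (SU 3 F 5) x) = 3000 := by omega
    let f : stabilizer K x →* stabilizer (SU 3 F 5) x :=
      { toFun := fun k => ⟨(k.1 : SU 3 F 5), k.2⟩
        map_one' := rfl
        map_mul' := fun _ _ => rfl }
    have hf : Function.Injective f := fun a b h =>
      Subtype.ext (Subtype.ext (congrArg (fun z : stabilizer (SU 3 F 5) x => z.1) h))
    exact h1 ▸ Subgroup.card_dvd_of_injective f hf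
  have horb : ∀ x : IsoPt hF 3, Nat.card (orbit K x) * Nat.card (stabilizer K x) = Nat.card K :=
    fun x => by
      rw [← Nat.card_prod]
      exact Nat.card_congr (orbitProdStabilizerEquivGroup K x)
  have horb_le : ∀ x : IsoPt hF 3, Nat.card (orbit K x) ≤ 126 := fun x =>
    hpt ▸ Nat.card_le_card_of_injective _ Subtype.val_injective
  have h5 : ∀ x : IsoPt hF 3, 5 ∣ Nat.card (stabilizer K x) := by
    intro x
    by_contra h
    have hcop : Nat.Coprime (Nat.card (stabilizer K x)) (5 ^ 3) :=
      Nat.Coprime.pow_right _ ((Nat.prime_five.coprime_iff_not_dvd.2 h).symm)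
    have hd := hst x
    rw [show (3000 : ℕ) = 24 * 5 ^ 3 by norm_num] at hd
    have h24 := Nat.le_of_dvd (by norm_num) (hcop.dvd_of_dvd_mul_right hd)
    have := Nat.mul_le_mul (horb_le x) h24
    rw [horb x] at this
    nlinarith [this, hKi, hK]
  have hfix : ∀ x : IsoPt hF 3, ∃ s : K, s ^ 5 = 1 ∧ s ≠ 1 ∧ s • x = x := by
    intro x
    obtain ⟨s, hs⟩ := exists_prime_orderOf_dvd_card' 5 (h5 x)
    refine ⟨s.1, ?_, ?_, s.2⟩
    · have h := congrArg Subtype.val (orderOf_dvd_iff_pow_eq_one.1 hs.dvd)
      simpa using h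
    · intro h
      rw [← Subgroup.orderOf_coe, h, orderOf_one] at hs
      norm_num at hs
  have huniq : ∀ (s : K), s ^ 5 = 1 → s ≠ 1 → ∀ x y : IsoPt hF 3, s • x = x → s • y = y → x = y := by
    intro s h5s hs x y hx hy
    by_contra hne
    refine hs (Subtype.ext (eq_one_of_fix_two hF ?_ hne hx hy))
    have := congrArg Subtype.val h5s
    simpa using this
  have htrans : ∀ x y : IsoPt hF 3, ∃ k : K, k • x = y := by
    intro x y
    obtain ⟨s, hs5, hs1, hsx⟩ := hfix x
    obtain ⟨t, ht5, ht1, hty⟩ := hfix y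
    have hpg : ∀ r : K, r ^ 5 = 1 → IsPGroup 5 (Subgroup.zpowers r) := fun r hr => by
      rintro ⟨z, m, rfl⟩
      refine ⟨1, Subtype.ext ?_⟩
      show (r ^ m) ^ (5 ^ 1) = 1
      rw [pow_one, ← zpow_natCast, ← _root_.zpow_mul, mul_comm, _root_.zpow_mul, zpow_natCast, hr, _root_.one_zpow]
    obtain ⟨Q, hQ⟩ := (hpg s hs5).exists_le_sylow
    obtain ⟨Q', hQ'⟩ := (hpg t ht5).exists_le_sylow
    have hfp : ∀ Q : Sylow 5 K, ∃ z : IsoPt hF 3, ∀ r : K, r ∈ (Q : Subgroup K) → r • z = z := by
      intro Q
      obtain ⟨z, hz⟩ := Q.isPGroup'.nonempty_fixed_point_of_prime_not_dvd_card (IsoPt hF 3)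
        (by rw [hpt]; norm_num)
      exact ⟨z, fun r hr => hz ⟨r, hr⟩⟩
    obtain ⟨k, hk⟩ := exists_smul_eq K Q Q'
    obtain ⟨z, hz⟩ := hfp Q'
    have hzy : z = y := huniq t ht5 ht1 z y (hz t (hQ' (Subgroup.mem_zpowers t))) hty
    have hmem : k * s * k⁻¹ ∈ (Q' : Subgroup K) := by
      rw [← hk]
      exact ⟨s, hQ (Subgroup.mem_zpowers s), by simp [MulAut.conj_apply]⟩
    refine ⟨k, huniq (k * s * k⁻¹) ?_ ?_ _ _ ?_ (hzy ▸ hz _ hmem)⟩
    · rw [conj_pow, hs5, mul_one, mul_inv_cancel]
    · exact fun h => hs1 (conj_eq_one_iff.1 h)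
    · rw [mul_smul, inv_smul_smul, mul_smul, hsx]
  obtain ⟨x⟩ : Nonempty (IsoPt hF 3) :=
    Finite.card_pos_iff.1 (by rw [hpt]; norm_num)
  have horb126 : Nat.card (orbit K x) = 126 := by
    rw [← hpt]
    exact Nat.card_congr
      ((Equiv.setCongr (Set.eq_univ_of_forall fun y => htrans x y)).trans (Equiv.Set.univ _))
  have h3 : 3 ∣ Nat.card (stabilizer K x) := by
    let f : Subgroup.center (SU 3 F 5) →* stabilizer K x :=
      { toFun := fun z => ⟨⟨z.1, hZ z.2⟩, by
          obtain ⟨a, ha⟩ := (mem_center_iff hF (by norm_num)).1 z.2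
          exact smul_eq_of_rep hF (ha _)⟩
        map_one' := rfl
        map_mul' := fun _ _ => rfl }
    have hf : Function.Injective f := fun a b h =>
      Subtype.ext (congrArg (fun z : stabilizer K x => (z.1 : SU 3 F 5)) h)
    have := Subgroup.card_dvd_of_injective f hf
    rwa [card_center hF (by norm_num)] at this
  obtain ⟨m, hm⟩ := h3
  have h := horb x
  rw [horb126, hm] at h
  refine ⟨m, ?_⟩
  rw [← h] at hKi
  nlinarith [hKi]

end Cfsg.Agent.PSU35
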