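import Mathlib

/-!
Tables for `PSU₃(5)` on the 50 cosets of `A₇`: representatives, the elements of `A₇` used, the steps.
-/

set_option autoImplicit false

namespace Cfsg.Agent.PSU35.Cosets

/-- The sixth generator, of order 8, and its powers 2, 4, 8. -/
def extraL : List (List (ℕ × ℕ)) := [
  [(0, 3), (3, 3), (1, 2), (2, 2), (4, 0), (4, 1), (4, 3), (4, 1), (2, 0)],
  [(2, 3), (3, 0), (2, 2), (2, 0), (2, 0), (4, 2), (3, 3), (4, 2), (3, 4)],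
  [(1, 4), (3, 1), (0, 0), (2, 4), (4, 1), (0, 0), (0, 0), (0, 0), (3, 2)],
  [(2, 2), (0, 0), (0, 0), (0, 0), (2, 2), (0, 0), (0, 0), (0, 0), (2, 2)]]

/-- The representatives. -/
def repL : List (List (ℕ × ℕ)) := [
  [(1, 0), (0, 0), (0, 0), (0, 0), (1, 0), (0, 0), (0, 0), (0, 0), (1, 0)],
  [(0, 3), (3, 3), (1, 2), (2, 2), (4, 0), (4, 1), (4, 3), (4, 1), (2, 0)],
  [(0, 1), (2, 3), (2, 1), (2, 3), (1, 1), (3, 3), (0, 3), (4, 0), (0, 1)],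
  [(0, 3), (3, 3), (1, 2), (3, 3), (1, 0), (1, 4), (1, 2), (1, 4), (3, 0)],
  [(2, 2), (2, 0), (3, 3), (1, 0), (0, 4), (3, 1), (2, 0), (3, 0), (4, 2)],
  [(2, 3), (1, 0), (2, 0), (3, 1), (1, 3), (2, 2), (0, 4), (0, 3), (2, 2)],
  [(3, 3), (2, 3), (2, 0), (2, 2), (4, 0), (4, 1), (1, 1), (1, 1), (1, 3)],
  [(4, 2), (3, 3), (2, 4), (2, 2), (4, 4), (1, 0), (3, 1), (1, 0), (4, 3)],
  [(2, 3), (2, 4), (0, 1), (4, 0), (1, 3), (0, 3), (3, 0), (2, 2), (2, 2)],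
  [(0, 3), (2, 1), (3, 4), (2, 1), (2, 1), (0, 2), (0, 2), (2, 4), (0, 3)],
  [(2, 3), (1, 0), (2, 0), (2, 4), (4, 2), (3, 3), (0, 1), (0, 2), (3, 3)],
  [(0, 1), (4, 0), (2, 4), (2, 4), (4, 2), (3, 3), (3, 3), (0, 2), (1, 2)],
  [(4, 2), (3, 3), (3, 4), (1, 0), (2, 1), (4, 2), (0, 3), (4, 2), (4, 0)],
  [(2, 2), (3, 2), (3, 0), (3, 1), (2, 2), (0, 4), (0, 4), (3, 0), (4, 1)],
  [(1, 4), (0, 1), (1, 1), (2, 0), (3, 0), (0, 1), (4, 3), (4, 4), (3, 0)],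
  [(1, 0), (3, 0), (1, 0), (2, 1), (2, 1), (2, 1), (4, 3), (0, 0), (1, 2)],
  [(4, 2), (3, 3), (2, 4), (3, 3), (1, 1), (4, 0), (2, 4), (4, 0), (1, 2)],
  [(1, 3), (2, 2), (3, 1), (3, 0), (3, 0), (4, 3), (1, 4), (2, 2), (2, 2)],
  [(0, 2), (0, 3), (0, 2), (3, 2), (1, 4), (3, 2), (1, 3), (0, 0), (4, 2)],
  [(2, 3), (2, 4), (0, 1), (1, 0), (4, 2), (0, 2), (2, 0), (3, 3), (3, 3)],
  [(1, 2), (0, 4), (0, 0), (0, 3), (2, 1), (3, 1), (3, 3), (3, 2), (2, 0)],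
  [(0, 3), (2, 1), (3, 4), (3, 4), (3, 4), (0, 3), (0, 3), (3, 1), (0, 2)],
  [(3, 1), (0, 1), (3, 3), (3, 4), (3, 4), (0, 3), (3, 1), (2, 3), (4, 3)],
  [(0, 2), (3, 4), (2, 1), (2, 1), (2, 1), (0, 2), (0, 3), (3, 1), (0, 2)],
  [(3, 1), (0, 0), (1, 1), (3, 1), (1, 3), (2, 2), (3, 4), (0, 4), (4, 0)],
  [(2, 0), (2, 3), (2, 3), (1, 0), (2, 3), (4, 1), (2, 3), (4, 4), (2, 2)],
  [(4, 0), (3, 4), (0, 4), (0, 2), (3, 4), (2, 4), (1, 2), (3, 1), (1, 0)],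
  [(1, 1), (3, 2), (2, 3), (4, 0), (0, 2), (1, 3), (3, 3), (1, 2), (2, 1)],
  [(1, 4), (0, 1), (1, 1), (3, 0), (2, 0), (0, 4), (1, 2), (1, 1), (2, 0)],
  [(4, 3), (1, 0), (0, 2), (3, 4), (3, 4), (3, 4), (2, 2), (0, 4), (3, 4)],
  [(4, 0), (2, 0), (4, 0), (1, 2), (0, 0), (4, 3), (3, 4), (3, 4), (3, 4)],
  [(4, 3), (1, 4), (2, 0), (2, 2), (4, 4), (1, 0), (3, 4), (0, 4), (2, 2)],
  [(3, 4), (4, 0), (0, 1), (0, 3), (1, 3), (1, 0), (3, 1), (3, 4), (2, 4)],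
  [(1, 0), (0, 0), (0, 0), (0, 0), (1, 2), (0, 4), (0, 0), (0, 4), (1, 3)],
  [(4, 0), (1, 4), (2, 3), (4, 0), (1, 3), (0, 3), (4, 1), (3, 0), (0, 4)],
  [(3, 3), (3, 3), (3, 0), (3, 2), (4, 0), (2, 0), (4, 4), (3, 0), (1, 3)],
  [(3, 4), (1, 4), (0, 0), (0, 4), (4, 4), (1, 4), (3, 2), (0, 1), (2, 1)],
  [(0, 1), (4, 1), (4, 1), (2, 2), (2, 3), (3, 0), (3, 1), (2, 3), (4, 3)],
  [(3, 1), (0, 0), (1, 1), (2, 4), (4, 2), (3, 3), (2, 1), (0, 1), (1, 0)],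
  [(2, 4), (0, 0), (4, 4), (2, 3), (3, 1), (4, 2), (0, 1), (3, 0), (4, 1)],
  [(4, 0), (3, 4), (0, 4), (0, 3), (2, 1), (3, 1), (4, 3), (2, 4), (4, 0)],
  [(0, 0), (4, 4), (2, 1), (2, 0), (3, 0), (0, 1), (2, 4), (4, 3), (2, 3)],
  [(1, 4), (4, 3), (4, 1), (4, 0), (2, 4), (0, 4), (3, 2), (4, 0), (3, 0)],
  [(4, 1), (4, 1), (4, 3), (2, 0), (4, 3), (4, 4), (0, 4), (4, 4), (4, 1)],
  [(1, 2), (4, 1), (3, 0), (0, 0), (4, 3), (0, 4), (1, 3), (4, 4), (1, 4)],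
  [(0, 4), (1, 1), (3, 0), (3, 1), (2, 2), (0, 4), (2, 2), (2, 2), (1, 1)],
  [(2, 0), (1, 0), (2, 2), (0, 0), (4, 3), (0, 1), (0, 3), (0, 2), (3, 4)],
  [(0, 3), (1, 3), (2, 2), (2, 2), (2, 4), (0, 4), (4, 3), (3, 2), (0, 2)],
  [(1, 0), (4, 1), (3, 2), (2, 3), (2, 2), (1, 1), (2, 0), (2, 3), (3, 2)],
  [(0, 4), (1, 4), (1, 4), (3, 0), (1, 0), (3, 3), (1, 4), (4, 0), (2, 3)]]

/-- Parent and generator of each representative. -/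
def repP : List (ℕ × ℕ) :=
  [(0, 0), (0, 5), (1, 0), (1, 1), (2, 0), (2, 5), (3, 2), (3, 5), (4, 5), (5, 0), (5, 1), (5, 2), (5, 5), (6, 3), (6, 5), (7, 0), (7, 1), (7, 3), (8, 0), (8, 1), (9, 0), (9, 1), (9, 2), (9, 4), (10, 2), (10, 5), (11, 0), (14, 0), (14, 1), (15, 2), (16, 0), (16, 2), (17, 0), (18, 5), (19, 2), (19, 5), (21, 5), (24, 0), (24, 1), (24, 3), (26, 1), (28, 2), (29, 5), (30, 5), (31, 3), (31, 5), (33, 2), (33, 5), (34, 3), (37, 3)]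

/-- Elements of the subgroup. -/
def subL : List (List (ℕ × ℕ)) := [
  [(1, 0), (0, 0), (0, 0), (0, 0), (1, 0), (0, 0), (0, 0), (0, 0), (1, 0)],
  [(0, 0), (0, 1), (0, 1), (0, 1), (2, 0), (3, 0), (0, 4), (2, 0), (3, 0)],
  [(0, 0), (0, 4), (0, 4), (0, 1), (3, 0), (2, 0), (0, 4), (3, 0), (2, 0)],
  [(4, 0), (0, 1), (0, 2), (0, 3), (2, 0), (0, 0), (0, 4), (2, 0), (2, 0)],
  [(3, 0), (0, 0), (0, 3), (0, 2), (0, 0), (2, 0), (0, 0), (1, 0), (0, 0)],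
  [(3, 0), (0, 0), (0, 2), (0, 2), (0, 0), (3, 0), (0, 0), (4, 0), (0, 0)],
  [(2, 0), (2, 0), (0, 1), (0, 3), (0, 4), (4, 0), (0, 0), (3, 0), (0, 3)],
  [(3, 2), (4, 4), (1, 0), (3, 1), (4, 3), (3, 2), (4, 3), (1, 1), (4, 4)],
  [(1, 2), (1, 1), (1, 1), (3, 1), (1, 2), (3, 2), (2, 3), (4, 4), (4, 0)],
  [(4, 3), (1, 1), (4, 4), (2, 4), (1, 2), (2, 3), (3, 2), (4, 4), (1, 0)],
  [(1, 2), (1, 4), (1, 4), (3, 1), (0, 0), (4, 1), (2, 3), (3, 1), (4, 3)],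
  [(1, 2), (4, 1), (1, 4), (2, 4), (0, 0), (1, 4), (2, 3), (2, 4), (4, 3)],
  [(4, 0), (0, 0), (0, 0), (0, 0), (2, 0), (0, 2), (0, 0), (0, 3), (3, 0)],
  [(0, 0), (0, 4), (0, 4), (1, 2), (4, 4), (1, 1), (1, 2), (1, 1), (4, 4)],
  [(4, 0), (0, 1), (0, 2), (3, 2), (1, 1), (1, 0), (1, 1), (4, 4), (0, 4)],
  [(4, 0), (0, 4), (0, 3), (3, 2), (4, 4), (4, 0), (1, 1), (1, 1), (0, 1)],
  [(2, 0), (0, 3), (0, 0), (3, 0), (0, 1), (3, 0), (0, 1), (4, 0), (0, 2)],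
  [(3, 0), (0, 3), (0, 0), (2, 0), (0, 1), (2, 0), (0, 4), (4, 0), (0, 3)],
  [(2, 0), (0, 1), (2, 0), (3, 0), (0, 3), (0, 0), (0, 1), (1, 0), (0, 2)],
  [(4, 1), (0, 4), (1, 4), (1, 0), (0, 2), (0, 1), (2, 2), (4, 0), (4, 1)],
  [(4, 1), (0, 1), (4, 1), (1, 0), (0, 3), (0, 4), (2, 2), (1, 0), (1, 4)],
  [(0, 1), (0, 3), (4, 0), (3, 0), (0, 0), (0, 2), (2, 0), (3, 0), (0, 4)],
  [(0, 4), (0, 3), (1, 0), (2, 0), (0, 0), (0, 3), (3, 0), (3, 0), (0, 1)],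
  [(0, 0), (1, 2), (4, 3), (0, 4), (4, 4), (4, 4), (0, 1), (4, 4), (4, 4)],
  [(3, 2), (4, 3), (2, 4), (4, 0), (1, 1), (3, 2), (4, 4), (1, 1), (1, 2)],
  [(3, 2), (1, 2), (3, 1), (4, 0), (4, 4), (2, 3), (4, 4), (4, 4), (4, 3)],
  [(2, 3), (2, 4), (1, 2), (2, 2), (2, 3), (3, 0), (2, 0), (4, 3), (2, 0)],
  [(3, 2), (1, 1), (4, 0), (3, 3), (4, 0), (1, 4), (3, 0), (3, 2), (3, 3)],
  [(1, 0), (0, 4), (0, 3), (0, 1), (3, 0), (3, 0), (0, 2), (3, 0), (0, 0)],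
  [(1, 0), (0, 1), (0, 2), (0, 1), (2, 0), (2, 0), (0, 2), (2, 0), (0, 0)],
  [(4, 0), (2, 2), (4, 1), (0, 4), (4, 1), (1, 4), (0, 3), (4, 0), (0, 4)],
  [(4, 2), (3, 3), (2, 1), (4, 1), (1, 4), (4, 2), (4, 1), (1, 0), (2, 2)],
  [(4, 2), (2, 2), (3, 4), (4, 1), (4, 1), (1, 3), (4, 1), (4, 0), (3, 3)],
  [(1, 4), (4, 1), (4, 2), (1, 3), (2, 2), (2, 1), (4, 1), (1, 0), (3, 3)],
  [(4, 1), (4, 1), (1, 3), (4, 2), (2, 2), (3, 4), (1, 4), (1, 0), (2, 2)],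
  [(1, 4), (1, 0), (2, 2), (1, 3), (3, 3), (2, 1), (4, 1), (4, 1), (1, 3)],
  [(2, 0), (0, 0), (0, 2), (0, 0), (4, 0), (0, 0), (0, 3), (0, 0), (3, 0)],
  [(1, 0), (0, 1), (0, 3), (0, 4), (3, 0), (2, 0), (0, 2), (2, 0), (0, 0)],
  [(1, 0), (0, 4), (0, 2), (0, 4), (2, 0), (3, 0), (0, 2), (3, 0), (0, 0)],
  [(4, 0), (0, 1), (0, 3), (0, 2), (3, 0), (0, 0), (0, 4), (2, 0), (3, 0)],
  [(1, 0), (3, 2), (4, 4), (0, 3), (1, 0), (0, 1), (0, 1), (4, 4), (4, 4)],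
  [(1, 2), (2, 3), (2, 4), (1, 1), (4, 0), (2, 3), (4, 4), (1, 1), (1, 2)],
  [(1, 2), (3, 2), (3, 1), (1, 1), (1, 0), (3, 2), (4, 4), (4, 4), (4, 3)],
  [(4, 3), (3, 2), (2, 4), (4, 4), (1, 0), (2, 3), (1, 1), (4, 4), (1, 2)],
  [(1, 2), (0, 0), (4, 3), (1, 1), (0, 1), (1, 1), (4, 4), (0, 1), (4, 4)],
  [(0, 1), (0, 0), (0, 1), (3, 0), (0, 4), (2, 0), (2, 0), (0, 4), (3, 0)],
  [(0, 1), (0, 0), (0, 4), (3, 0), (0, 1), (3, 0), (2, 0), (0, 1), (2, 0)],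
  [(2, 0), (2, 3), (2, 2), (2, 2), (1, 0), (4, 1), (2, 3), (4, 4), (1, 0)],
  [(2, 3), (2, 0), (3, 3), (4, 3), (3, 0), (3, 0), (2, 4), (4, 3), (3, 2)],
  [(2, 0), (3, 0), (1, 3), (3, 0), (2, 0), (1, 3), (1, 2), (1, 2), (0, 0)],
  [(1, 0), (0, 0), (0, 0), (0, 0), (4, 0), (0, 0), (0, 0), (0, 0), (4, 0)],
  [(0, 0), (0, 1), (0, 1), (0, 4), (3, 0), (2, 0), (0, 1), (3, 0), (2, 0)],
  [(0, 0), (0, 4), (0, 4), (0, 4), (2, 0), (3, 0), (0, 1), (2, 0), (3, 0)],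
  [(4, 0), (0, 1), (0, 2), (0, 2), (3, 0), (0, 0), (0, 1), (3, 0), (3, 0)],
  [(1, 0), (2, 2), (4, 1), (0, 3), (1, 0), (0, 1), (0, 4), (1, 4), (4, 1)],
  [(3, 2), (3, 3), (2, 0), (1, 1), (4, 0), (2, 3), (1, 0), (4, 1), (3, 3)],
  [(0, 0), (4, 3), (1, 2), (0, 4), (1, 1), (1, 1), (0, 1), (1, 1), (1, 1)],
  [(2, 3), (1, 2), (3, 1), (1, 1), (4, 4), (4, 3), (1, 0), (4, 4), (2, 3)],
  [(2, 3), (4, 3), (2, 4), (1, 1), (1, 1), (1, 2), (1, 0), (1, 1), (3, 2)],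
  [(3, 2), (4, 3), (3, 1), (4, 4), (1, 1), (4, 3), (4, 0), (1, 1), (2, 3)],
  [(4, 1), (3, 1), (0, 0), (1, 2), (3, 2), (3, 1), (1, 4), (1, 2), (4, 1)],
  [(1, 4), (1, 2), (4, 1), (4, 3), (2, 3), (2, 4), (4, 1), (3, 1), (0, 0)],
  [(3, 0), (0, 2), (0, 0), (0, 0), (0, 0), (4, 0), (0, 2), (3, 0), (0, 0)],
  [(2, 0), (0, 4), (3, 0), (0, 0), (0, 2), (2, 0), (0, 3), (1, 0), (0, 1)],
  [(4, 4), (0, 1), (4, 4), (0, 1), (0, 3), (1, 0), (1, 1), (4, 0), (2, 3)],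
  [(4, 4), (0, 4), (1, 1), (0, 1), (0, 2), (4, 0), (1, 1), (1, 0), (3, 2)],
  [(1, 4), (0, 4), (1, 4), (4, 1), (0, 4), (4, 1), (1, 3), (0, 0), (4, 2)],
  [(0, 4), (0, 2), (1, 0), (1, 1), (0, 4), (4, 4), (1, 1), (4, 0), (3, 2)],
  [(0, 0), (0, 4), (0, 1), (0, 4), (2, 0), (2, 0), (0, 4), (3, 0), (3, 0)],
  [(0, 0), (0, 1), (0, 4), (0, 4), (3, 0), (3, 0), (0, 4), (2, 0), (2, 0)],
  [(4, 0), (0, 0), (0, 0), (0, 0), (0, 0), (1, 0), (0, 0), (1, 0), (0, 0)],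
  [(1, 0), (0, 0), (0, 0), (0, 0), (0, 3), (3, 0), (0, 0), (2, 0), (0, 2)],
  [(0, 0), (0, 1), (0, 4), (0, 1), (2, 0), (2, 0), (0, 1), (3, 0), (3, 0)],
  [(4, 0), (0, 4), (0, 2), (0, 3), (3, 0), (0, 0), (0, 1), (2, 0), (3, 0)],
  [(1, 0), (2, 3), (1, 1), (0, 2), (1, 0), (0, 1), (0, 4), (4, 4), (4, 4)],
  [(3, 3), (3, 2), (3, 0), (1, 4), (4, 0), (3, 3), (4, 0), (1, 1), (3, 2)],
  [(1, 0), (0, 2), (0, 1), (0, 3), (0, 0), (3, 0), (0, 4), (3, 0), (3, 0)],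
  [(1, 0), (0, 3), (0, 4), (0, 3), (0, 0), (2, 0), (0, 4), (2, 0), (2, 0)],
  [(4, 0), (4, 1), (2, 2), (0, 2), (0, 1), (1, 0), (0, 1), (4, 1), (1, 4)],
  [(0, 1), (1, 4), (1, 4), (0, 2), (0, 4), (1, 0), (4, 0), (1, 4), (2, 2)],
  [(0, 1), (4, 1), (4, 1), (0, 2), (0, 1), (4, 0), (4, 0), (4, 1), (3, 3)],
  [(0, 4), (4, 1), (1, 4), (0, 3), (0, 1), (1, 0), (1, 0), (4, 1), (2, 2)],
  [(0, 1), (2, 0), (2, 0), (0, 2), (0, 0), (2, 0), (4, 0), (0, 3), (0, 4)],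
  [(0, 3), (3, 0), (0, 0), (0, 0), (0, 0), (4, 0), (2, 0), (0, 2), (0, 0)],
  [(1, 4), (3, 1), (0, 0), (4, 3), (3, 2), (2, 4), (4, 1), (1, 2), (1, 4)],
  [(4, 0), (0, 0), (0, 0), (0, 0), (1, 0), (0, 0), (0, 0), (0, 0), (4, 0)],
  [(0, 0), (0, 4), (0, 4), (0, 1), (2, 0), (3, 0), (0, 1), (3, 0), (2, 0)],
  [(0, 0), (0, 1), (0, 1), (0, 1), (3, 0), (2, 0), (0, 1), (2, 0), (3, 0)],
  [(1, 0), (0, 4), (0, 3), (0, 3), (2, 0), (0, 0), (0, 1), (3, 0), (3, 0)],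
  [(2, 0), (0, 0), (0, 2), (0, 2), (0, 0), (2, 0), (0, 0), (4, 0), (0, 0)],
  [(2, 0), (0, 0), (0, 3), (0, 2), (0, 0), (3, 0), (0, 0), (1, 0), (0, 0)],
  [(3, 0), (3, 0), (0, 4), (0, 3), (0, 4), (4, 0), (0, 0), (2, 0), (0, 2)],
  [(0, 0), (2, 0), (0, 3), (0, 3), (0, 1), (4, 0), (2, 0), (3, 0), (0, 1)],
  [(0, 0), (3, 0), (0, 2), (0, 3), (0, 4), (1, 0), (2, 0), (2, 0), (0, 4)],
  [(0, 0), (3, 0), (0, 3), (0, 2), (0, 4), (4, 0), (3, 0), (2, 0), (0, 1)],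
  [(0, 0), (4, 0), (0, 0), (0, 3), (0, 0), (3, 0), (2, 0), (0, 0), (0, 2)],
  [(4, 0), (2, 3), (1, 1), (0, 1), (4, 4), (4, 4), (0, 3), (1, 0), (0, 1)],
  [(4, 3), (3, 2), (3, 1), (4, 4), (1, 1), (1, 2), (1, 1), (4, 0), (2, 3)],
  [(4, 3), (2, 3), (2, 4), (4, 4), (4, 4), (4, 3), (1, 1), (1, 0), (3, 2)],
  [(1, 2), (2, 3), (3, 1), (1, 1), (4, 4), (1, 2), (4, 4), (1, 0), (2, 3)],
  [(4, 3), (0, 0), (1, 2), (4, 4), (0, 1), (4, 4), (1, 1), (0, 1), (1, 1)],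
  [(0, 4), (0, 0), (0, 4), (2, 0), (0, 4), (3, 0), (3, 0), (0, 4), (2, 0)],
  [(4, 0), (3, 2), (4, 4), (0, 1), (1, 1), (1, 1), (0, 3), (4, 0), (0, 4)],
  [(2, 2), (2, 3), (2, 0), (1, 0), (4, 4), (2, 3), (4, 1), (1, 0), (2, 2)],
  [(2, 2), (3, 2), (3, 0), (1, 0), (1, 1), (3, 2), (4, 1), (4, 0), (3, 3)],
  [(4, 0), (1, 1), (2, 3), (3, 3), (3, 2), (2, 0), (4, 1), (1, 0), (3, 3)],
  [(2, 0), (0, 0), (0, 2), (0, 0), (1, 0), (0, 0), (0, 2), (0, 0), (2, 0)],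
  [(1, 0), (0, 1), (0, 3), (0, 1), (2, 0), (3, 0), (0, 3), (3, 0), (0, 0)],
  [(1, 0), (0, 4), (0, 2), (0, 1), (3, 0), (2, 0), (0, 3), (2, 0), (0, 0)],
  [(4, 0), (0, 3), (0, 4), (0, 1), (2, 0), (2, 0), (0, 2), (0, 0), (2, 0)],
  [(1, 0), (4, 1), (2, 2), (0, 4), (4, 1), (1, 4), (0, 3), (0, 1), (1, 0)],
  [(4, 1), (1, 4), (1, 3), (4, 1), (1, 4), (4, 2), (0, 4), (0, 4), (0, 0)],
  [(4, 1), (4, 1), (4, 2), (4, 1), (4, 1), (1, 3), (0, 4), (0, 1), (0, 0)],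
  [(1, 4), (4, 1), (1, 3), (1, 4), (4, 1), (4, 2), (0, 1), (0, 1), (0, 0)],
  [(1, 3), (3, 4), (3, 3), (3, 0), (4, 2), (2, 0), (2, 0), (2, 2), (2, 3)],
  [(4, 2), (4, 2), (0, 0), (2, 0), (3, 0), (4, 3), (3, 0), (2, 0), (4, 3)],
  [(3, 4), (1, 3), (3, 3), (2, 2), (2, 0), (2, 3), (4, 2), (3, 0), (2, 0)],
  [(3, 4), (4, 2), (2, 2), (2, 2), (3, 0), (3, 2), (4, 2), (2, 0), (3, 0)],
  [(0, 2), (0, 1), (1, 0), (1, 0), (1, 1), (2, 3), (0, 4), (4, 4), (4, 4)],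
  [(0, 0), (1, 2), (1, 2), (0, 1), (4, 4), (1, 1), (0, 4), (4, 4), (1, 1)],
  [(0, 0), (4, 2), (1, 3), (0, 4), (4, 1), (4, 1), (0, 1), (4, 1), (4, 1)],
  [(3, 3), (1, 3), (3, 4), (1, 0), (1, 4), (3, 3), (1, 4), (1, 4), (1, 3)],
  [(3, 3), (4, 2), (2, 1), (1, 0), (4, 1), (2, 2), (1, 4), (4, 1), (4, 2)],
  [(0, 0), (4, 2), (4, 2), (0, 4), (4, 1), (1, 4), (0, 4), (1, 4), (4, 1)],
  [(2, 2), (1, 3), (2, 1), (4, 1), (1, 4), (4, 2), (1, 0), (4, 1), (3, 3)],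
  [(2, 2), (4, 2), (3, 4), (4, 1), (4, 1), (1, 3), (1, 0), (1, 4), (2, 2)],
  [(1, 1), (3, 4), (0, 0), (1, 3), (2, 2), (2, 1), (4, 4), (1, 3), (4, 4)],
  [(4, 4), (3, 4), (0, 0), (4, 2), (2, 2), (3, 4), (1, 1), (1, 3), (1, 1)],
  [(1, 1), (1, 3), (1, 1), (1, 3), (3, 3), (2, 1), (4, 4), (3, 4), (0, 0)],
  [(3, 0), (4, 2), (2, 0), (3, 2), (2, 2), (3, 0), (3, 3), (2, 1), (1, 3)],
  [(3, 0), (1, 3), (3, 0), (3, 2), (3, 3), (2, 0), (3, 3), (3, 4), (4, 2)],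
  [(1, 3), (3, 4), (2, 2), (1, 1), (4, 4), (4, 2), (4, 4), (0, 0), (2, 1)],
  [(1, 0), (2, 2), (4, 1), (0, 2), (4, 0), (0, 4), (0, 1), (4, 1), (1, 4)],
  [(3, 2), (3, 3), (2, 0), (4, 4), (1, 0), (3, 2), (4, 0), (1, 4), (2, 2)],
  [(3, 2), (2, 2), (3, 0), (4, 4), (4, 0), (2, 3), (4, 0), (4, 1), (3, 3)],
  [(2, 3), (0, 0), (0, 0), (0, 0), (2, 4), (4, 1), (0, 0), (1, 4), (3, 1)],
  [(4, 1), (0, 0), (2, 4), (1, 2), (3, 1), (2, 3), (1, 4), (4, 1), (4, 3)],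
  [(4, 1), (0, 0), (3, 1), (1, 2), (2, 4), (3, 2), (1, 4), (1, 4), (1, 2)],
  [(3, 2), (3, 1), (1, 2), (4, 4), (4, 3), (4, 4), (4, 0), (2, 3), (4, 4)],
  [(2, 3), (3, 0), (2, 2), (1, 1), (2, 3), (4, 0), (1, 0), (3, 3), (4, 1)],
  [(3, 0), (2, 0), (0, 1), (0, 0), (3, 0), (0, 3), (0, 2), (0, 4), (4, 0)],
  [(2, 0), (3, 0), (0, 4), (3, 0), (2, 0), (0, 4), (0, 1), (0, 1), (0, 0)],
  [(2, 0), (2, 0), (0, 1), (3, 0), (3, 0), (0, 1), (0, 1), (0, 4), (0, 0)],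
  [(3, 2), (4, 4), (1, 0), (3, 3), (1, 0), (4, 1), (3, 0), (2, 3), (2, 2)],
  [(1, 2), (1, 1), (1, 1), (2, 3), (4, 0), (4, 4), (3, 1), (3, 2), (1, 2)],
  [(1, 0), (4, 1), (3, 3), (0, 3), (0, 1), (4, 0), (0, 4), (4, 1), (4, 1)],
  [(4, 0), (1, 1), (3, 2), (0, 2), (0, 4), (1, 0), (0, 1), (4, 4), (1, 1)],
  [(0, 4), (4, 4), (4, 4), (0, 2), (0, 1), (1, 0), (1, 0), (1, 1), (2, 3)],
  [(0, 4), (1, 1), (1, 1), (0, 2), (0, 4), (4, 0), (1, 0), (4, 4), (3, 2)],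
  [(0, 0), (2, 4), (4, 1), (3, 1), (2, 3), (1, 2), (4, 1), (4, 3), (1, 4)],
  [(0, 0), (4, 2), (1, 3), (0, 1), (4, 1), (4, 1), (0, 1), (1, 4), (1, 4)],
  [(0, 0), (1, 2), (1, 2), (0, 4), (4, 4), (1, 1), (0, 4), (1, 1), (4, 4)],
  [(4, 0), (0, 4), (0, 3), (0, 3), (3, 0), (0, 0), (0, 4), (3, 0), (3, 0)],
  [(2, 0), (0, 3), (0, 0), (0, 3), (2, 0), (0, 0), (0, 0), (0, 0), (1, 0)],
  [(3, 0), (0, 1), (2, 0), (0, 2), (4, 0), (0, 4), (0, 0), (0, 3), (3, 0)],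
  [(3, 0), (0, 0), (0, 3), (0, 3), (0, 0), (3, 0), (0, 0), (4, 0), (0, 0)],
  [(3, 0), (0, 0), (0, 2), (0, 3), (0, 0), (2, 0), (0, 0), (1, 0), (0, 0)],
  [(1, 0), (0, 2), (0, 4), (0, 3), (0, 0), (2, 0), (0, 1), (2, 0), (3, 0)],
  [(4, 0), (4, 4), (3, 2), (0, 2), (0, 1), (1, 0), (0, 4), (4, 4), (4, 4)],
  [(0, 4), (1, 1), (4, 4), (0, 2), (0, 4), (1, 0), (4, 0), (1, 1), (3, 2)],
  [(0, 1), (1, 1), (1, 1), (0, 3), (0, 4), (4, 0), (1, 0), (1, 1), (2, 3)],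
  [(0, 4), (3, 0), (2, 0), (0, 2), (0, 0), (3, 0), (4, 0), (0, 3), (0, 1)],
  [(1, 0), (3, 3), (1, 4), (0, 2), (1, 0), (0, 1), (0, 1), (1, 4), (4, 1)],
  [(1, 3), (2, 2), (3, 4), (1, 4), (4, 0), (3, 3), (1, 4), (4, 1), (1, 3)],
  [(4, 0), (0, 1), (0, 3), (0, 3), (2, 0), (0, 0), (0, 1), (3, 0), (2, 0)],
  [(1, 0), (0, 2), (0, 1), (0, 2), (0, 0), (2, 0), (0, 1), (2, 0), (2, 0)],
  [(1, 0), (0, 3), (0, 4), (0, 2), (0, 0), (3, 0), (0, 1), (3, 0), (3, 0)],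
  [(3, 3), (2, 3), (3, 0), (4, 0), (4, 4), (3, 2), (1, 4), (1, 0), (3, 3)],
  [(2, 2), (4, 0), (1, 4), (1, 0), (0, 2), (0, 4), (4, 1), (0, 4), (4, 1)],
  [(3, 2), (1, 0), (1, 1), (1, 0), (0, 3), (0, 4), (4, 4), (0, 1), (1, 1)],
  [(3, 2), (4, 0), (4, 4), (1, 0), (0, 2), (0, 1), (4, 4), (0, 4), (4, 4)],
  [(4, 1), (1, 2), (4, 1), (0, 0), (3, 1), (1, 4), (3, 1), (3, 2), (4, 3)],
  [(4, 4), (4, 3), (1, 1), (4, 3), (2, 4), (3, 2), (4, 4), (2, 3), (1, 0)],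
  [(4, 4), (1, 2), (4, 4), (4, 3), (3, 1), (2, 3), (4, 4), (3, 2), (4, 0)],
  [(1, 1), (1, 2), (1, 1), (1, 2), (3, 1), (3, 2), (1, 1), (3, 2), (1, 0)],
  [(2, 0), (1, 2), (3, 0), (3, 0), (1, 2), (2, 0), (4, 2), (0, 0), (4, 2)],
  [(3, 0), (2, 3), (2, 2), (2, 0), (2, 0), (4, 2), (1, 3), (2, 2), (2, 1)],
  [(3, 1), (3, 2), (1, 2), (1, 2), (3, 0), (2, 0), (3, 2), (3, 3), (3, 0)],
  [(4, 0), (0, 3), (0, 4), (0, 4), (3, 0), (3, 0), (0, 3), (0, 0), (3, 0)],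
  [(1, 0), (4, 1), (2, 2), (0, 1), (1, 4), (4, 1), (0, 2), (0, 4), (4, 0)],
  [(4, 1), (1, 4), (1, 3), (1, 4), (4, 1), (1, 3), (0, 1), (0, 1), (0, 0)],
  [(4, 1), (4, 1), (4, 2), (1, 4), (1, 4), (4, 2), (0, 1), (0, 4), (0, 0)],
  [(1, 4), (4, 1), (1, 3), (4, 1), (1, 4), (1, 3), (0, 4), (0, 4), (0, 0)],
  [(1, 3), (3, 4), (3, 3), (2, 0), (1, 3), (3, 0), (3, 0), (3, 3), (3, 2)],
  [(4, 2), (4, 2), (0, 0), (3, 0), (2, 0), (1, 2), (2, 0), (3, 0), (1, 2)],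
  [(3, 4), (1, 3), (3, 3), (3, 3), (3, 0), (3, 2), (1, 3), (2, 0), (3, 0)],
  [(1, 0), (0, 4), (0, 3), (0, 2), (3, 0), (0, 0), (0, 4), (2, 0), (2, 0)],
  [(4, 0), (3, 3), (1, 4), (0, 3), (1, 0), (0, 1), (0, 1), (4, 1), (1, 4)],
  [(2, 3), (2, 2), (3, 0), (1, 1), (4, 0), (2, 3), (4, 0), (1, 4), (2, 2)],
  [(2, 3), (3, 3), (2, 0), (1, 1), (1, 0), (3, 2), (4, 0), (4, 1), (3, 3)],
  [(1, 1), (1, 3), (1, 1), (1, 3), (0, 0), (4, 2), (1, 1), (4, 2), (1, 1)],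
  [(4, 4), (1, 3), (4, 4), (4, 2), (0, 0), (1, 3), (4, 4), (4, 2), (4, 4)],
  [(3, 0), (2, 0), (0, 1), (0, 0), (2, 0), (0, 2), (0, 3), (0, 1), (1, 0)],
  [(2, 0), (2, 0), (0, 4), (0, 0), (2, 0), (0, 3), (0, 2), (0, 1), (4, 0)],
  [(3, 0), (3, 0), (0, 1), (0, 0), (2, 0), (0, 3), (0, 3), (0, 4), (1, 0)],
  [(2, 0), (2, 0), (0, 4), (3, 0), (3, 0), (0, 4), (0, 4), (0, 1), (0, 0)],
  [(2, 0), (3, 0), (0, 1), (3, 0), (2, 0), (0, 1), (0, 4), (0, 4), (0, 0)],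
  [(1, 0), (0, 4), (0, 3), (0, 4), (2, 0), (2, 0), (0, 3), (2, 0), (0, 0)],
  [(4, 0), (3, 3), (1, 4), (0, 1), (4, 1), (1, 4), (0, 2), (4, 0), (0, 4)],
  [(2, 3), (2, 2), (3, 0), (4, 0), (1, 4), (2, 2), (4, 4), (1, 0), (3, 2)],
  [(3, 2), (2, 2), (2, 0), (1, 0), (1, 4), (3, 3), (1, 1), (1, 0), (2, 3)],
  [(2, 3), (4, 0), (4, 4), (4, 0), (0, 2), (0, 1), (4, 4), (0, 1), (1, 1)],
  [(3, 3), (1, 0), (4, 1), (4, 0), (0, 3), (0, 1), (4, 1), (0, 4), (4, 1)],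
  [(0, 0), (1, 2), (4, 3), (0, 1), (1, 1), (1, 1), (0, 4), (1, 1), (1, 1)],
  [(0, 0), (1, 2), (1, 2), (0, 4), (1, 1), (4, 4), (0, 1), (1, 1), (4, 4)],
  [(0, 0), (4, 2), (1, 3), (0, 1), (1, 4), (1, 4), (0, 4), (1, 4), (1, 4)],
  [(3, 3), (1, 3), (3, 4), (4, 0), (4, 1), (2, 2), (4, 1), (4, 1), (4, 2)],
  [(3, 3), (4, 2), (2, 1), (4, 0), (1, 4), (3, 3), (4, 1), (1, 4), (1, 3)],
  [(2, 2), (3, 4), (4, 2), (2, 3), (3, 3), (2, 0), (2, 0), (1, 3), (3, 0)],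
  [(3, 3), (3, 0), (3, 2), (3, 2), (1, 2), (3, 1), (3, 0), (2, 0), (1, 2)],
  [(3, 3), (2, 3), (2, 0), (1, 4), (1, 0), (2, 2), (4, 0), (4, 4), (2, 3)],
  [(2, 2), (2, 3), (3, 0), (4, 1), (1, 0), (3, 3), (1, 0), (4, 4), (3, 2)],
  [(3, 3), (4, 0), (1, 4), (1, 4), (0, 4), (4, 1), (4, 0), (0, 2), (0, 4)],
  [(4, 4), (4, 0), (2, 3), (3, 2), (2, 2), (3, 0), (1, 0), (1, 4), (2, 2)],
  [(3, 0), (3, 0), (0, 1), (2, 0), (2, 0), (0, 1), (0, 4), (0, 1), (0, 0)],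
  [(2, 0), (2, 0), (0, 4), (3, 0), (0, 0), (0, 2), (0, 1), (0, 2), (4, 0)],
  [(3, 0), (3, 0), (0, 1), (3, 0), (0, 0), (0, 2), (0, 4), (0, 3), (1, 0)],
  [(4, 2), (2, 2), (2, 1), (4, 1), (4, 0), (2, 2), (4, 1), (4, 1), (4, 2)],
  [(1, 3), (0, 0), (4, 2), (1, 4), (0, 1), (1, 4), (1, 4), (0, 4), (1, 4)],
  [(4, 3), (0, 0), (4, 3), (1, 1), (0, 4), (4, 4), (1, 1), (0, 1), (4, 4)],
  [(4, 3), (0, 0), (1, 2), (1, 1), (0, 1), (1, 1), (1, 1), (0, 4), (1, 1)],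
  [(1, 4), (3, 3), (4, 0), (0, 4), (4, 0), (0, 2), (1, 4), (4, 1), (0, 1)],
  [(2, 0), (2, 2), (3, 2), (2, 3), (1, 0), (1, 1), (3, 3), (1, 4), (1, 0)],
  [(3, 3), (1, 3), (3, 4), (1, 4), (1, 4), (1, 3), (4, 0), (4, 1), (2, 2)],
  [(3, 2), (3, 0), (2, 2), (3, 1), (1, 2), (2, 3), (1, 2), (2, 0), (2, 0)],
  [(3, 0), (2, 0), (4, 2), (4, 3), (4, 3), (0, 0), (2, 0), (3, 0), (4, 2)],
  [(3, 0), (3, 0), (1, 3), (4, 3), (1, 2), (0, 0), (2, 0), (2, 0), (1, 3)],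
  [(4, 2), (3, 4), (2, 2), (4, 1), (3, 3), (4, 0), (4, 1), (1, 3), (4, 1)],
  [(4, 0), (0, 1), (0, 3), (0, 4), (2, 0), (3, 0), (0, 3), (2, 0), (0, 0)],
  [(1, 0), (0, 2), (0, 1), (0, 4), (3, 0), (3, 0), (0, 2), (0, 0), (2, 0)],
  [(4, 0), (1, 4), (3, 3), (0, 1), (1, 4), (4, 1), (0, 3), (0, 1), (1, 0)],
  [(4, 0), (2, 3), (4, 4), (0, 3), (1, 0), (0, 4), (0, 1), (4, 4), (1, 1)],
  [(1, 0), (3, 3), (4, 1), (0, 2), (1, 0), (0, 4), (0, 4), (4, 1), (4, 1)],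
  [(3, 2), (2, 2), (2, 0), (4, 4), (4, 0), (3, 2), (1, 0), (1, 4), (3, 3)],
  [(3, 0), (0, 0), (0, 3), (2, 0), (3, 0), (0, 1), (0, 4), (0, 2), (4, 0)],
  [(2, 0), (0, 0), (0, 2), (3, 0), (3, 0), (0, 4), (0, 1), (0, 2), (1, 0)],
  [(3, 0), (2, 0), (0, 1), (2, 0), (0, 0), (0, 3), (0, 4), (0, 2), (1, 0)],
  [(0, 0), (0, 1), (0, 1), (1, 2), (1, 1), (4, 4), (1, 2), (4, 4), (1, 1)],
  [(1, 0), (0, 4), (0, 3), (1, 1), (4, 4), (0, 4), (3, 2), (1, 1), (1, 0)],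
  [(2, 0), (0, 0), (0, 2), (0, 4), (0, 2), (4, 0), (2, 0), (3, 0), (0, 1)],
  [(2, 0), (0, 0), (0, 3), (0, 4), (0, 3), (1, 0), (2, 0), (2, 0), (0, 4)],
  [(3, 0), (3, 0), (0, 4), (0, 1), (0, 4), (0, 0), (3, 0), (3, 0), (0, 1)],
  [(2, 3), (1, 1), (4, 0), (3, 0), (2, 3), (2, 2), (3, 3), (1, 0), (4, 1)],
  [(4, 3), (4, 4), (4, 4), (3, 1), (3, 2), (1, 2), (2, 3), (4, 0), (4, 4)],
  [(3, 0), (0, 3), (0, 0), (0, 2), (2, 0), (0, 0), (0, 0), (0, 0), (4, 0)],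
  [(2, 0), (0, 1), (2, 0), (0, 3), (4, 0), (0, 4), (0, 0), (0, 2), (2, 0)],
  [(4, 1), (0, 4), (1, 4), (4, 1), (1, 0), (2, 2), (0, 1), (0, 3), (1, 0)],
  [(4, 0), (0, 4), (0, 2), (0, 4), (3, 0), (2, 0), (0, 3), (3, 0), (0, 0)],
  [(1, 0), (2, 3), (1, 1), (0, 1), (1, 1), (1, 1), (0, 2), (1, 0), (0, 1)],
  [(3, 3), (3, 2), (3, 0), (1, 0), (4, 4), (2, 3), (1, 4), (4, 0), (3, 3)],
  [(3, 3), (2, 3), (2, 0), (1, 0), (1, 1), (3, 2), (1, 4), (1, 0), (2, 2)],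
  [(1, 0), (4, 4), (3, 2), (3, 3), (3, 2), (2, 0), (1, 4), (4, 0), (2, 2)],
  [(4, 0), (4, 4), (2, 3), (2, 2), (3, 2), (3, 0), (4, 1), (4, 0), (3, 3)],
  [(2, 0), (0, 0), (0, 2), (0, 3), (0, 0), (3, 0), (0, 0), (1, 0), (0, 0)],
  [(3, 0), (2, 0), (0, 1), (0, 2), (0, 4), (4, 0), (0, 0), (2, 0), (0, 2)],
  [(2, 0), (3, 0), (0, 4), (0, 1), (0, 1), (0, 0), (2, 0), (3, 0), (0, 1)],
  [(2, 0), (2, 0), (0, 1), (0, 1), (0, 4), (0, 0), (2, 0), (2, 0), (0, 4)],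
  [(3, 2), (4, 4), (1, 0), (3, 0), (2, 3), (2, 2), (2, 2), (4, 0), (1, 4)],
  [(2, 3), (4, 4), (4, 0), (2, 0), (2, 3), (3, 3), (3, 3), (4, 0), (4, 1)],
  [(3, 2), (0, 0), (0, 0), (0, 0), (2, 4), (1, 4), (0, 0), (1, 4), (2, 4)],
  [(2, 3), (0, 0), (0, 0), (0, 0), (3, 1), (4, 1), (0, 0), (1, 4), (2, 4)],
  [(4, 1), (0, 0), (2, 4), (1, 2), (2, 4), (2, 3), (4, 1), (4, 1), (1, 2)],
  [(4, 1), (0, 0), (3, 1), (1, 2), (3, 1), (3, 2), (4, 1), (1, 4), (4, 3)],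
  [(3, 2), (3, 1), (1, 2), (3, 0), (1, 2), (2, 0), (2, 2), (2, 3), (2, 0)],
  [(2, 3), (3, 0), (2, 2), (2, 0), (2, 0), (4, 2), (3, 3), (4, 2), (3, 4)],
  [(1, 0), (0, 0), (0, 0), (0, 0), (2, 0), (0, 3), (0, 0), (0, 3), (2, 0)],
  [(4, 0), (0, 0), (0, 0), (0, 0), (2, 0), (0, 3), (0, 0), (0, 2), (3, 0)],
  [(2, 0), (3, 0), (0, 4), (0, 3), (0, 1), (1, 0), (0, 0), (2, 0), (0, 2)],
  [(3, 0), (2, 0), (0, 1), (0, 4), (0, 4), (0, 0), (2, 0), (3, 0), (0, 1)],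
  [(3, 0), (3, 0), (0, 4), (0, 4), (0, 1), (0, 0), (2, 0), (2, 0), (0, 4)],
  [(2, 0), (3, 0), (0, 1), (0, 1), (0, 1), (0, 0), (3, 0), (2, 0), (0, 1)],
  [(3, 3), (1, 4), (4, 0), (2, 0), (2, 2), (2, 3), (3, 2), (4, 0), (1, 1)],
  [(2, 2), (2, 0), (3, 2), (3, 0), (2, 0), (4, 3), (2, 3), (4, 3), (3, 1)],
  [(2, 0), (0, 1), (3, 0), (0, 3), (4, 0), (0, 1), (0, 0), (0, 3), (2, 0)],
  [(3, 0), (0, 1), (3, 0), (0, 2), (4, 0), (0, 1), (0, 0), (0, 2), (3, 0)],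
  [(3, 0), (0, 0), (0, 2), (0, 1), (0, 3), (4, 0), (3, 0), (2, 0), (0, 1)],
  [(1, 0), (0, 4), (0, 2), (0, 2), (3, 0), (0, 0), (0, 1), (3, 0), (2, 0)],
  [(4, 0), (2, 3), (1, 1), (0, 3), (1, 0), (0, 1), (0, 4), (1, 1), (1, 1)],
  [(4, 3), (3, 2), (3, 1), (1, 1), (4, 0), (2, 3), (1, 1), (4, 4), (4, 3)],
  [(4, 3), (2, 3), (2, 4), (1, 1), (1, 0), (3, 2), (1, 1), (1, 1), (1, 2)],
  [(3, 0), (4, 3), (3, 0), (1, 3), (0, 0), (4, 2), (3, 0), (1, 2), (3, 0)],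
  [(2, 0), (4, 3), (2, 0), (4, 2), (0, 0), (1, 3), (2, 0), (1, 2), (2, 0)],
  [(1, 0), (0, 1), (0, 2), (0, 4), (3, 0), (3, 0), (0, 3), (3, 0), (0, 0)],
  [(3, 0), (0, 2), (0, 0), (0, 0), (0, 0), (1, 0), (0, 3), (2, 0), (0, 0)],
  [(2, 0), (0, 2), (0, 0), (0, 0), (0, 0), (4, 0), (0, 2), (2, 0), (0, 0)],
  [(3, 0), (0, 4), (3, 0), (0, 0), (0, 2), (2, 0), (0, 3), (4, 0), (0, 4)],
  [(0, 0), (0, 4), (0, 1), (0, 4), (3, 0), (3, 0), (0, 1), (3, 0), (3, 0)],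
  [(0, 0), (1, 3), (1, 3), (0, 1), (1, 4), (4, 1), (0, 4), (1, 4), (4, 1)],
  [(3, 3), (4, 2), (3, 4), (1, 4), (4, 1), (1, 3), (1, 0), (4, 1), (3, 3)],
  [(3, 3), (1, 3), (2, 1), (1, 4), (1, 4), (4, 2), (1, 0), (1, 4), (2, 2)],
  [(4, 4), (2, 1), (0, 0), (4, 2), (3, 3), (3, 4), (4, 4), (1, 3), (4, 4)],
  [(1, 1), (2, 1), (0, 0), (1, 3), (3, 3), (2, 1), (1, 1), (1, 3), (1, 1)],
  [(1, 4), (0, 0), (2, 4), (4, 3), (2, 4), (2, 3), (4, 1), (1, 4), (4, 3)],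
  [(4, 1), (4, 1), (1, 2), (1, 2), (2, 4), (2, 3), (1, 4), (0, 0), (3, 1)],
  [(4, 0), (0, 0), (0, 0), (0, 0), (3, 0), (0, 3), (0, 0), (0, 2), (2, 0)],
  [(3, 0), (0, 0), (0, 3), (3, 0), (2, 0), (0, 4), (0, 1), (0, 3), (1, 0)],
  [(2, 0), (0, 0), (0, 2), (2, 0), (2, 0), (0, 1), (0, 4), (0, 3), (4, 0)],
  [(3, 0), (2, 0), (0, 1), (3, 0), (0, 0), (0, 2), (0, 1), (0, 3), (4, 0)],
  [(1, 0), (0, 2), (0, 4), (0, 2), (0, 0), (3, 0), (0, 4), (3, 0), (2, 0)],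
  [(4, 0), (0, 2), (0, 1), (0, 3), (0, 0), (2, 0), (0, 1), (3, 0), (3, 0)],
  [(1, 0), (1, 4), (3, 3), (0, 2), (0, 1), (1, 0), (0, 4), (1, 4), (4, 1)],
  [(0, 4), (4, 1), (4, 1), (0, 2), (0, 4), (1, 0), (1, 0), (4, 1), (3, 3)],
  [(0, 4), (1, 4), (1, 4), (0, 2), (0, 1), (4, 0), (1, 0), (1, 4), (2, 2)],
  [(0, 0), (2, 1), (4, 4), (2, 1), (2, 2), (1, 3), (4, 4), (1, 3), (4, 4)],
  [(0, 0), (2, 1), (1, 1), (3, 4), (2, 2), (4, 2), (1, 1), (1, 3), (1, 1)],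
  [(3, 0), (0, 0), (0, 2), (2, 0), (2, 0), (0, 4), (0, 4), (0, 3), (1, 0)],
  [(2, 0), (0, 0), (0, 3), (3, 0), (2, 0), (0, 1), (0, 1), (0, 3), (4, 0)],
  [(3, 0), (3, 0), (0, 4), (2, 0), (0, 0), (0, 2), (0, 4), (0, 3), (4, 0)],
  [(2, 3), (3, 1), (4, 3), (1, 1), (4, 3), (1, 1), (1, 0), (2, 3), (1, 1)],
  [(3, 2), (4, 4), (1, 0), (4, 4), (4, 4), (0, 1), (4, 0), (0, 4), (0, 2)],
  [(1, 2), (1, 1), (1, 1), (4, 3), (1, 1), (1, 1), (0, 0), (0, 1), (0, 4)],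
  [(1, 1), (0, 4), (4, 4), (0, 4), (0, 2), (1, 0), (4, 4), (1, 0), (2, 3)],
  [(0, 1), (0, 2), (4, 0), (4, 4), (0, 4), (1, 1), (4, 4), (4, 0), (2, 3)],
  [(0, 4), (0, 1), (0, 0), (1, 1), (1, 1), (4, 3), (1, 1), (1, 1), (1, 2)],
  [(3, 2), (4, 3), (2, 4), (1, 0), (4, 4), (2, 3), (1, 1), (4, 4), (4, 3)],
  [(3, 2), (1, 2), (3, 1), (1, 0), (1, 1), (3, 2), (1, 1), (1, 1), (1, 2)],
  [(2, 3), (1, 2), (2, 4), (4, 0), (1, 1), (2, 3), (4, 4), (1, 1), (4, 3)],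
  [(1, 4), (2, 4), (0, 0), (1, 4), (1, 2), (4, 1), (1, 2), (3, 2), (3, 1)],
  [(4, 1), (4, 3), (1, 4), (4, 1), (3, 1), (0, 0), (4, 3), (2, 3), (2, 4)],
  [(1, 0), (0, 1), (0, 3), (0, 3), (3, 0), (0, 0), (0, 4), (3, 0), (2, 0)],
  [(2, 0), (2, 0), (0, 4), (0, 0), (3, 0), (0, 2), (0, 3), (0, 4), (1, 0)],
  [(3, 0), (3, 0), (0, 1), (0, 0), (3, 0), (0, 2), (0, 2), (0, 1), (4, 0)],
  [(2, 0), (2, 0), (0, 4), (2, 0), (2, 0), (0, 1), (0, 1), (0, 4), (0, 0)],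
  [(4, 3), (2, 3), (3, 1), (4, 4), (4, 0), (3, 2), (1, 1), (1, 1), (4, 3)],
  [(1, 2), (0, 0), (1, 2), (1, 1), (0, 4), (4, 4), (4, 4), (0, 4), (1, 1)],
  [(4, 2), (0, 0), (1, 3), (1, 4), (0, 1), (1, 4), (4, 1), (0, 1), (4, 1)],
  [(4, 2), (0, 0), (4, 2), (1, 4), (0, 4), (4, 1), (4, 1), (0, 4), (1, 4)],
  [(1, 1), (2, 3), (1, 0), (1, 1), (1, 1), (0, 1), (0, 4), (4, 0), (0, 3)],
  [(1, 0), (0, 1), (0, 2), (1, 1), (1, 1), (0, 1), (3, 2), (4, 4), (4, 0)],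
  [(4, 0), (2, 2), (4, 1), (4, 4), (3, 2), (4, 0), (2, 3), (3, 0), (3, 3)],
  [(1, 0), (2, 2), (1, 4), (1, 1), (3, 2), (1, 0), (3, 2), (3, 0), (2, 2)],
  [(4, 0), (3, 2), (1, 1), (4, 4), (1, 2), (1, 1), (2, 3), (3, 1), (1, 2)],
  [(4, 3), (2, 3), (3, 1), (4, 1), (4, 3), (4, 1), (1, 4), (2, 4), (0, 0)],
  [(4, 3), (3, 2), (2, 4), (4, 1), (1, 2), (1, 4), (1, 4), (3, 1), (0, 0)],
  [(1, 1), (1, 1), (1, 2), (1, 0), (1, 1), (3, 2), (2, 3), (4, 3), (2, 4)],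
  [(4, 0), (1, 4), (3, 3), (0, 2), (0, 4), (4, 0), (0, 1), (1, 4), (4, 1)],
  [(1, 4), (4, 1), (4, 2), (0, 1), (0, 1), (0, 0), (1, 4), (4, 1), (1, 3)],
  [(1, 4), (1, 4), (1, 3), (0, 1), (0, 4), (0, 0), (1, 4), (1, 4), (4, 2)],
  [(4, 1), (1, 4), (4, 2), (0, 4), (0, 4), (0, 0), (4, 1), (1, 4), (1, 3)],
  [(4, 2), (2, 1), (2, 2), (3, 0), (3, 3), (3, 2), (2, 0), (1, 3), (3, 0)],
  [(1, 3), (1, 3), (0, 0), (2, 0), (3, 0), (1, 2), (3, 0), (2, 0), (1, 2)],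
  [(2, 1), (4, 2), (2, 2), (1, 3), (2, 0), (3, 0), (3, 3), (3, 0), (3, 2)],
  [(4, 0), (0, 3), (0, 1), (1, 4), (0, 1), (1, 4), (2, 2), (4, 0), (1, 4)],
  [(1, 0), (1, 1), (2, 3), (4, 1), (4, 0), (2, 2), (3, 3), (2, 3), (3, 0)],
  [(0, 1), (4, 4), (1, 1), (0, 3), (1, 0), (0, 4), (1, 0), (3, 2), (1, 1)],
  [(0, 4), (4, 4), (4, 4), (0, 2), (1, 0), (0, 1), (4, 0), (3, 2), (4, 4)],
  [(0, 1), (2, 0), (3, 0), (0, 3), (3, 0), (0, 0), (1, 0), (0, 1), (0, 3)],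
  [(0, 1), (3, 0), (3, 0), (0, 1), (2, 0), (2, 0), (0, 0), (0, 4), (0, 1)],
  [(0, 1), (2, 0), (2, 0), (0, 1), (3, 0), (3, 0), (0, 0), (0, 1), (0, 4)],
  [(0, 0), (0, 0), (4, 0), (0, 0), (4, 0), (0, 0), (4, 0), (0, 0), (0, 0)],
  [(3, 0), (0, 0), (0, 3), (0, 0), (4, 0), (0, 0), (0, 2), (0, 0), (2, 0)],
  [(2, 0), (3, 0), (0, 4), (0, 0), (3, 0), (0, 3), (0, 3), (0, 1), (1, 0)],
  [(3, 0), (2, 0), (0, 1), (3, 0), (2, 0), (0, 4), (0, 4), (0, 4), (0, 0)],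
  [(4, 4), (4, 2), (4, 4), (4, 2), (0, 0), (1, 3), (1, 1), (4, 2), (1, 1)],
  [(1, 1), (4, 2), (1, 1), (1, 3), (0, 0), (4, 2), (4, 4), (4, 2), (4, 4)],
  [(3, 0), (2, 0), (0, 1), (0, 3), (0, 1), (1, 0), (0, 0), (3, 0), (0, 3)],
  [(2, 0), (3, 0), (0, 4), (0, 4), (0, 4), (0, 0), (3, 0), (2, 0), (0, 4)],
  [(2, 0), (2, 0), (0, 1), (0, 4), (0, 1), (0, 0), (3, 0), (3, 0), (0, 1)],
  [(3, 0), (2, 0), (0, 4), (0, 1), (0, 1), (0, 0), (2, 0), (3, 0), (0, 4)],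
  [(2, 2), (4, 1), (1, 0), (2, 0), (2, 2), (2, 3), (2, 3), (1, 0), (4, 4)],
  [(0, 0), (3, 4), (1, 1), (2, 1), (2, 2), (1, 3), (1, 1), (4, 2), (1, 1)],
  [(0, 0), (3, 4), (4, 4), (3, 4), (2, 2), (4, 2), (4, 4), (4, 2), (4, 4)],
  [(0, 0), (0, 0), (3, 3), (2, 1), (1, 1), (0, 0), (1, 1), (2, 1), (0, 0)],
  [(3, 4), (0, 0), (4, 4), (4, 2), (4, 4), (4, 4), (2, 2), (3, 4), (4, 2)],
  [(4, 4), (3, 2), (1, 0), (4, 3), (3, 1), (3, 2), (4, 4), (1, 2), (1, 1)],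
  [(3, 1), (2, 3), (4, 3), (0, 0), (2, 4), (1, 4), (4, 1), (4, 3), (4, 1)],
  [(3, 1), (3, 2), (1, 2), (0, 0), (3, 1), (4, 1), (4, 1), (1, 2), (1, 4)],
  [(0, 2), (0, 1), (4, 0), (0, 4), (4, 4), (1, 1), (1, 0), (1, 1), (3, 2)],
  [(2, 0), (0, 0), (0, 3), (0, 0), (1, 0), (0, 0), (0, 3), (0, 0), (2, 0)],
  [(3, 0), (3, 0), (0, 4), (0, 0), (2, 0), (0, 2), (0, 2), (0, 1), (1, 0)],
  [(2, 3), (1, 1), (4, 0), (1, 2), (4, 4), (1, 1), (2, 4), (1, 2), (2, 3)],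
  [(4, 3), (4, 4), (4, 4), (3, 2), (1, 1), (1, 0), (2, 4), (4, 3), (2, 3)],
  [(4, 3), (1, 1), (1, 1), (3, 2), (4, 4), (4, 0), (2, 4), (1, 2), (3, 2)],
  [(1, 2), (1, 1), (4, 4), (2, 3), (4, 4), (1, 0), (3, 1), (1, 2), (2, 3)],
  [(4, 2), (4, 1), (4, 1), (3, 3), (1, 0), (1, 4), (3, 4), (3, 3), (1, 3)],
  [(1, 3), (4, 4), (1, 1), (2, 2), (1, 3), (3, 4), (2, 1), (4, 4), (0, 0)],
  [(3, 4), (1, 1), (0, 0), (3, 3), (4, 2), (2, 1), (4, 2), (1, 1), (4, 4)],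
  [(3, 4), (4, 4), (0, 0), (3, 3), (1, 3), (3, 4), (4, 2), (4, 4), (1, 1)],
  [(3, 4), (1, 1), (0, 0), (3, 3), (4, 2), (3, 4), (1, 3), (4, 4), (4, 4)],
  [(2, 3), (4, 3), (3, 1), (1, 0), (1, 1), (2, 3), (1, 1), (1, 1), (4, 3)],
  [(3, 2), (4, 0), (1, 1), (4, 0), (0, 3), (0, 1), (4, 4), (0, 4), (1, 1)],
  [(2, 2), (1, 0), (1, 4), (4, 0), (0, 2), (0, 1), (4, 1), (0, 1), (4, 1)],
  [(1, 1), (4, 2), (4, 4), (1, 3), (0, 0), (1, 3), (1, 1), (1, 3), (4, 4)],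
  [(4, 1), (0, 4), (4, 1), (1, 4), (0, 4), (1, 4), (4, 2), (0, 0), (1, 3)],
  [(1, 4), (1, 0), (3, 3), (4, 1), (4, 1), (4, 2), (1, 3), (3, 3), (3, 4)],
  [(0, 2), (4, 0), (0, 1), (0, 4), (1, 4), (1, 4), (1, 0), (2, 2), (1, 4)],
  [(0, 2), (1, 0), (0, 4), (0, 4), (4, 1), (4, 1), (1, 0), (3, 3), (4, 1)],
  [(2, 1), (1, 3), (2, 2), (0, 0), (4, 4), (2, 1), (4, 4), (4, 4), (1, 3)],
  [(4, 0), (3, 3), (1, 4), (0, 4), (1, 4), (4, 1), (0, 3), (1, 0), (0, 1)],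
  [(2, 3), (2, 2), (3, 0), (1, 0), (4, 1), (3, 3), (1, 1), (4, 0), (2, 3)],
  [(3, 2), (2, 2), (2, 0), (4, 0), (4, 1), (2, 2), (4, 4), (4, 0), (3, 2)],
  [(2, 3), (4, 0), (4, 4), (1, 0), (0, 3), (0, 4), (1, 1), (0, 4), (4, 4)],
  [(4, 0), (0, 4), (0, 3), (0, 2), (2, 0), (0, 0), (0, 1), (2, 0), (2, 0)],
  [(2, 0), (0, 3), (0, 0), (0, 2), (3, 0), (0, 0), (0, 0), (0, 0), (4, 0)],
  [(3, 0), (0, 1), (2, 0), (0, 3), (1, 0), (0, 1), (0, 0), (0, 2), (2, 0)],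
  [(1, 1), (0, 4), (1, 1), (1, 1), (4, 0), (2, 3), (0, 1), (0, 3), (1, 0)],
  [(1, 1), (0, 1), (4, 4), (1, 1), (1, 0), (3, 2), (0, 1), (0, 2), (4, 0)],
  [(4, 4), (0, 1), (1, 1), (4, 4), (1, 0), (2, 3), (0, 4), (0, 2), (1, 0)],
  [(1, 1), (1, 0), (2, 3), (1, 1), (0, 1), (1, 1), (0, 1), (0, 2), (1, 0)],
  [(0, 3), (4, 0), (0, 1), (3, 0), (0, 4), (2, 0), (0, 0), (0, 3), (2, 0)],
  [(2, 0), (0, 0), (0, 3), (0, 0), (4, 0), (0, 0), (0, 2), (0, 0), (3, 0)],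
  [(4, 0), (0, 3), (0, 1), (0, 4), (3, 0), (2, 0), (0, 2), (0, 0), (3, 0)],
  [(1, 0), (0, 3), (0, 4), (0, 1), (3, 0), (3, 0), (0, 3), (0, 0), (2, 0)],
  [(4, 0), (4, 1), (2, 2), (0, 4), (1, 4), (4, 1), (0, 2), (0, 1), (1, 0)],
  [(0, 1), (1, 4), (1, 4), (1, 0), (4, 1), (3, 3), (0, 2), (0, 4), (1, 0)],
  [(0, 1), (4, 1), (4, 1), (1, 0), (1, 4), (2, 2), (0, 2), (0, 1), (4, 0)],
  [(0, 0), (3, 4), (1, 1), (4, 4), (1, 3), (4, 4), (2, 1), (2, 2), (1, 3)],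
  [(1, 4), (1, 2), (1, 4), (0, 0), (3, 1), (4, 1), (2, 4), (3, 2), (1, 2)],
  [(4, 1), (1, 2), (1, 4), (0, 0), (2, 4), (1, 4), (3, 1), (3, 2), (1, 2)],
  [(2, 0), (4, 3), (2, 0), (4, 3), (3, 1), (3, 2), (3, 0), (2, 3), (2, 2)],
  [(2, 0), (1, 2), (3, 0), (4, 3), (2, 4), (2, 3), (3, 0), (3, 2), (3, 3)],
  [(4, 3), (3, 1), (2, 3), (2, 0), (4, 3), (3, 0), (3, 0), (2, 3), (3, 3)],
  [(1, 2), (4, 3), (0, 0), (3, 0), (3, 0), (1, 3), (2, 0), (2, 0), (1, 3)],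
  [(0, 0), (4, 3), (1, 2), (0, 4), (4, 4), (4, 4), (0, 4), (1, 1), (1, 1)],
  [(2, 3), (1, 2), (3, 1), (4, 0), (1, 1), (3, 2), (1, 1), (4, 4), (4, 3)],
  [(2, 3), (4, 3), (2, 4), (4, 0), (4, 4), (2, 3), (1, 1), (1, 1), (1, 2)],
  [(3, 2), (3, 1), (4, 3), (2, 2), (2, 3), (3, 0), (3, 0), (1, 2), (3, 0)],
  [(3, 2), (2, 4), (1, 2), (2, 0), (1, 2), (3, 0), (2, 2), (3, 2), (2, 0)],
  [(1, 0), (3, 2), (4, 4), (0, 2), (4, 0), (0, 4), (0, 4), (1, 1), (1, 1)],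
  [(1, 4), (4, 3), (1, 4), (2, 4), (2, 3), (1, 2), (0, 0), (2, 4), (4, 1)],
  [(1, 1), (1, 2), (4, 4), (1, 1), (3, 2), (4, 0), (1, 2), (3, 1), (2, 3)],
  [(1, 1), (4, 3), (1, 1), (1, 1), (2, 3), (1, 0), (1, 2), (2, 4), (3, 2)],
  [(4, 4), (4, 3), (4, 4), (4, 4), (2, 3), (4, 0), (4, 3), (2, 4), (2, 3)],
  [(1, 1), (2, 3), (4, 0), (1, 1), (4, 3), (4, 4), (1, 2), (2, 4), (2, 3)],
  [(3, 2), (4, 4), (1, 0), (2, 0), (3, 2), (3, 3), (3, 3), (1, 0), (4, 1)],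
  [(0, 0), (4, 3), (1, 2), (0, 1), (4, 4), (4, 4), (0, 4), (4, 4), (4, 4)],
  [(2, 3), (1, 2), (3, 1), (4, 4), (1, 1), (1, 2), (4, 0), (1, 1), (3, 2)],
  [(2, 3), (4, 3), (2, 4), (4, 4), (4, 4), (4, 3), (4, 0), (4, 4), (2, 3)],
  [(3, 2), (3, 1), (4, 3), (2, 0), (4, 3), (2, 0), (2, 2), (2, 3), (3, 0)],
  [(2, 3), (3, 1), (1, 2), (3, 0), (4, 3), (3, 0), (3, 3), (2, 3), (2, 0)],
  [(3, 2), (3, 0), (2, 2), (2, 0), (3, 0), (1, 3), (2, 2), (4, 2), (3, 4)],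
  [(1, 0), (3, 3), (1, 4), (0, 3), (4, 0), (0, 4), (0, 4), (4, 1), (1, 4)],
  [(3, 2), (3, 0), (2, 2), (2, 4), (4, 3), (3, 2), (4, 3), (3, 0), (3, 0)],
  [(3, 0), (2, 0), (4, 2), (1, 2), (1, 2), (0, 0), (3, 0), (2, 0), (1, 3)],
  [(3, 0), (3, 0), (1, 3), (1, 2), (4, 3), (0, 0), (3, 0), (3, 0), (4, 2)],
  [(2, 0), (3, 0), (4, 2), (4, 3), (4, 3), (0, 0), (2, 0), (3, 0), (1, 3)],
  [(3, 0), (3, 2), (2, 2), (1, 2), (3, 1), (2, 3), (3, 0), (4, 3), (3, 0)],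
  [(3, 1), (2, 3), (1, 2), (0, 0), (2, 4), (4, 1), (1, 4), (1, 2), (4, 1)],
  [(3, 1), (3, 2), (4, 3), (0, 0), (3, 1), (1, 4), (1, 4), (4, 3), (1, 4)],
  [(3, 4), (1, 3), (3, 3), (4, 2), (3, 0), (2, 0), (3, 3), (3, 0), (3, 2)],
  [(4, 0), (1, 4), (3, 3), (0, 3), (0, 1), (1, 0), (0, 4), (4, 1), (1, 4)],
  [(1, 4), (4, 1), (4, 2), (0, 4), (0, 4), (0, 0), (4, 1), (1, 4), (4, 2)],
  [(1, 4), (1, 4), (1, 3), (0, 4), (0, 1), (0, 0), (4, 1), (4, 1), (1, 3)],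
  [(4, 1), (1, 4), (4, 2), (0, 1), (0, 1), (0, 0), (1, 4), (4, 1), (4, 2)],
  [(4, 2), (2, 1), (2, 2), (2, 0), (2, 2), (2, 3), (3, 0), (4, 2), (2, 0)],
  [(1, 3), (1, 3), (0, 0), (3, 0), (2, 0), (4, 3), (2, 0), (3, 0), (4, 3)],
  [(2, 1), (4, 2), (2, 2), (4, 2), (3, 0), (2, 0), (2, 2), (2, 0), (2, 3)],
  [(2, 1), (1, 3), (3, 3), (4, 2), (2, 0), (3, 0), (2, 2), (3, 0), (3, 2)],
  [(0, 3), (0, 4), (4, 0), (0, 4), (4, 4), (4, 4), (1, 0), (1, 1), (2, 3)],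
  [(4, 4), (4, 4), (4, 3), (4, 3), (2, 3), (2, 4), (4, 4), (4, 0), (2, 3)],
  [(1, 1), (1, 0), (3, 2), (1, 2), (3, 2), (3, 1), (1, 1), (1, 1), (1, 2)],
  [(1, 1), (0, 4), (1, 1), (4, 4), (1, 0), (3, 2), (0, 4), (0, 2), (4, 0)],
  [(1, 1), (0, 1), (4, 4), (4, 4), (4, 0), (2, 3), (0, 4), (0, 3), (1, 0)],
  [(4, 4), (0, 1), (1, 1), (1, 1), (4, 0), (3, 2), (0, 1), (0, 3), (4, 0)],
  [(1, 1), (1, 0), (2, 3), (4, 4), (0, 4), (4, 4), (0, 4), (0, 3), (4, 0)],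
  [(0, 0), (1, 2), (4, 3), (0, 4), (1, 1), (1, 1), (0, 4), (4, 4), (4, 4)],
  [(3, 2), (4, 3), (2, 4), (1, 1), (4, 4), (4, 3), (4, 0), (1, 1), (3, 2)],
  [(3, 2), (1, 2), (3, 1), (1, 1), (1, 1), (1, 2), (4, 0), (4, 4), (2, 3)],
  [(2, 3), (2, 4), (1, 2), (3, 0), (1, 2), (3, 0), (2, 2), (2, 3), (3, 0)],
  [(2, 0), (2, 0), (1, 3), (4, 3), (1, 2), (0, 0), (2, 0), (2, 0), (4, 2)],
  [(3, 0), (2, 3), (3, 3), (1, 2), (2, 4), (3, 2), (3, 0), (1, 2), (2, 0)],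
  [(1, 0), (0, 4), (0, 2), (0, 3), (2, 0), (0, 0), (0, 4), (2, 0), (3, 0)],
  [(4, 0), (0, 3), (0, 4), (0, 2), (0, 0), (2, 0), (0, 4), (3, 0), (3, 0)],
  [(2, 0), (0, 2), (0, 0), (0, 2), (2, 0), (0, 0), (0, 0), (0, 0), (1, 0)],
  [(3, 0), (0, 2), (0, 0), (0, 3), (2, 0), (0, 0), (0, 0), (0, 0), (4, 0)],
  [(2, 0), (0, 4), (3, 0), (0, 2), (4, 0), (0, 4), (0, 0), (0, 2), (2, 0)],
  [(1, 0), (0, 3), (0, 1), (0, 1), (3, 0), (2, 0), (0, 2), (0, 0), (2, 0)],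
  [(4, 0), (1, 1), (2, 3), (0, 4), (1, 1), (1, 1), (0, 3), (0, 1), (1, 0)],
  [(0, 0), (2, 0), (0, 3), (2, 0), (3, 0), (0, 1), (0, 2), (0, 4), (1, 0)],
  [(0, 0), (3, 0), (0, 2), (2, 0), (2, 0), (0, 4), (0, 2), (0, 1), (4, 0)],
  [(0, 0), (3, 0), (0, 3), (3, 0), (2, 0), (0, 1), (0, 3), (0, 1), (1, 0)],
  [(4, 3), (1, 1), (4, 4), (3, 2), (4, 0), (1, 1), (2, 4), (3, 2), (4, 3)],
  [(1, 2), (1, 4), (1, 4), (2, 3), (4, 3), (3, 1), (3, 1), (4, 1), (0, 0)],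
  [(2, 0), (0, 1), (3, 0), (0, 2), (1, 0), (0, 4), (0, 0), (0, 2), (3, 0)],
  [(3, 0), (0, 1), (3, 0), (0, 3), (1, 0), (0, 4), (0, 0), (0, 3), (2, 0)],
  [(1, 4), (0, 4), (4, 1), (4, 1), (4, 0), (2, 2), (0, 1), (0, 2), (1, 0)],
  [(1, 0), (2, 3), (4, 4), (0, 4), (4, 4), (1, 1), (0, 2), (1, 0), (0, 4)],
  [(4, 0), (3, 3), (4, 1), (0, 1), (4, 1), (4, 1), (0, 3), (1, 0), (0, 4)],
  [(4, 2), (2, 2), (2, 1), (1, 4), (1, 4), (1, 3), (4, 1), (4, 0), (2, 2)],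
  [(4, 2), (3, 3), (3, 4), (1, 4), (4, 1), (4, 2), (4, 1), (1, 0), (3, 3)],
  [(3, 0), (1, 3), (2, 0), (3, 0), (4, 2), (2, 0), (4, 3), (0, 0), (4, 3)],
  [(1, 2), (2, 3), (2, 4), (4, 4), (1, 0), (3, 2), (1, 1), (4, 4), (4, 3)],
  [(4, 3), (2, 3), (3, 1), (1, 1), (1, 0), (2, 3), (4, 4), (4, 4), (1, 2)],
  [(1, 2), (3, 2), (3, 1), (4, 4), (4, 0), (2, 3), (1, 1), (1, 1), (1, 2)],
  [(4, 3), (3, 2), (2, 4), (1, 1), (4, 0), (3, 2), (4, 4), (1, 1), (4, 3)],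
  [(1, 2), (0, 0), (4, 3), (4, 4), (0, 4), (4, 4), (1, 1), (0, 4), (1, 1)],
  [(1, 1), (0, 1), (1, 1), (0, 4), (0, 3), (4, 0), (4, 4), (4, 0), (3, 2)],
  [(4, 4), (1, 0), (2, 3), (0, 1), (0, 3), (4, 0), (1, 1), (0, 4), (4, 4)],
  [(1, 4), (4, 0), (2, 2), (0, 4), (0, 2), (1, 0), (1, 4), (0, 1), (1, 4)],
  [(1, 4), (1, 0), (3, 3), (0, 4), (0, 3), (4, 0), (1, 4), (0, 4), (4, 1)],
  [(4, 3), (1, 2), (0, 0), (1, 1), (1, 1), (0, 4), (1, 1), (1, 1), (0, 1)],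
  [(3, 1), (4, 3), (2, 3), (1, 2), (4, 4), (4, 4), (3, 2), (4, 4), (4, 0)],
  [(3, 2), (2, 4), (4, 3), (3, 3), (2, 3), (2, 0), (3, 0), (4, 3), (3, 0)],
  [(0, 0), (3, 0), (0, 2), (0, 3), (0, 1), (4, 0), (3, 0), (2, 0), (0, 4)],
  [(0, 0), (2, 0), (0, 3), (0, 3), (0, 4), (1, 0), (3, 0), (3, 0), (0, 1)],
  [(0, 0), (2, 0), (0, 2), (0, 2), (0, 4), (4, 0), (2, 0), (3, 0), (0, 4)],
  [(1, 2), (4, 4), (1, 1), (3, 1), (2, 3), (1, 2), (2, 3), (1, 0), (4, 4)],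
  [(4, 3), (4, 1), (4, 1), (2, 4), (1, 4), (0, 0), (3, 2), (1, 2), (2, 4)],
  [(4, 3), (1, 4), (4, 1), (4, 3), (4, 1), (1, 4), (0, 0), (4, 3), (4, 3)],
  [(4, 3), (4, 1), (1, 4), (4, 3), (1, 4), (4, 1), (0, 0), (1, 2), (1, 2)],
  [(4, 3), (1, 4), (1, 4), (1, 2), (1, 4), (1, 4), (0, 0), (4, 3), (1, 2)],
  [(3, 0), (0, 0), (0, 2), (3, 0), (3, 0), (0, 1), (0, 1), (0, 2), (4, 0)],
  [(2, 0), (0, 0), (0, 3), (2, 0), (3, 0), (0, 4), (0, 4), (0, 2), (1, 0)],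
  [(3, 0), (3, 0), (0, 4), (3, 0), (0, 0), (0, 3), (0, 1), (0, 2), (1, 0)],
  [(0, 0), (2, 0), (0, 3), (4, 0), (0, 0), (0, 0), (0, 0), (0, 3), (2, 0)],
  [(0, 0), (3, 0), (0, 2), (4, 0), (0, 0), (0, 0), (0, 0), (0, 2), (3, 0)],
  [(1, 3), (1, 4), (4, 1), (0, 0), (0, 4), (0, 4), (4, 2), (1, 4), (4, 1)],
  [(1, 3), (4, 1), (1, 4), (0, 0), (0, 1), (0, 1), (4, 2), (4, 1), (1, 4)]]

/-- Parent and generator of each element of the subgroup. -/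
def subP : List (ℕ × ℕ) := [
  (0, 0),
  (0, 0),
  (1, 1),
  (2, 2),
  (3, 0),
  (4, 1),
  (5, 3),
  (6, 0),
  (7, 2),
  (8, 4),
  (9, 3),
  (10, 2),
  (0, 3),
  (12, 0),
  (13, 2),
  (14, 1),
  (15, 0),
  (16, 4),
  (17, 3),
  (18, 2),
  (19, 1),
  (20, 0),
  (21, 4),
  (1, 3),
  (23, 2),
  (24, 1),
  (25, 0),
  (26, 3),
  (1, 2),
  (28, 1),
  (29, 3),
  (30, 2),
  (31, 1),
  (32, 0),
  (33, 4),
  (34, 3),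
  (0, 2),
  (36, 0),
  (37, 1),
  (38, 2),
  (39, 3),
  (40, 2),
  (41, 1),
  (42, 4),
  (43, 3),
  (44, 2),
  (45, 1),
  (46, 0),
  (30, 0),
  (48, 2),
  (0, 1),
  (50, 0),
  (51, 1),
  (52, 2),
  (53, 3),
  (54, 2),
  (2, 3),
  (56, 2),
  (57, 1),
  (58, 4),
  (59, 0),
  (60, 3),
  (29, 0),
  (62, 3),
  (63, 2),
  (64, 1),
  (65, 0),
  (66, 0),
  (1, 0),
  (68, 1),
  (69, 0),
  (70, 3),
  (2, 0),
  (72, 2),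
  (73, 3),
  (74, 2),
  (39, 0),
  (76, 1),
  (77, 3),
  (78, 2),
  (79, 1),
  (80, 4),
  (81, 3),
  (82, 2),
  (26, 2),
  (0, 4),
  (85, 0),
  (86, 1),
  (87, 2),
  (88, 0),
  (89, 1),
  (90, 3),
  (91, 2),
  (92, 1),
  (93, 4),
  (94, 3),
  (38, 3),
  (96, 2),
  (97, 1),
  (98, 4),
  (99, 3),
  (100, 2),
  (37, 3),
  (102, 2),
  (103, 1),
  (104, 0),
  (50, 2),
  (106, 0),
  (107, 1),
  (108, 0),
  (109, 3),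
  (110, 2),
  (111, 1),
  (112, 4),
  (113, 0),
  (114, 3),
  (115, 2),
  (116, 1),
  (117, 0),
  (23, 4),
  (119, 3),
  (120, 2),
  (121, 1),
  (72, 3),
  (123, 2),
  (124, 1),
  (125, 0),
  (126, 4),
  (127, 3),
  (128, 2),
  (129, 1),
  (130, 0),
  (3, 3),
  (132, 2),
  (133, 1),
  (56, 0),
  (135, 2),
  (136, 1),
  (137, 0),
  (138, 3),
  (36, 3),
  (140, 2),
  (141, 1),
  (142, 0),
  (143, 2),
  (78, 4),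
  (145, 3),
  (146, 2),
  (147, 1),
  (148, 0),
  (123, 4),
  (150, 3),
  (3, 1),
  (152, 0),
  (153, 3),
  (70, 2),
  (155, 1),
  (156, 0),
  (157, 3),
  (158, 2),
  (159, 4),
  (160, 3),
  (152, 3),
  (162, 2),
  (73, 1),
  (164, 0),
  (165, 1),
  (103, 4),
  (167, 3),
  (168, 2),
  (169, 1),
  (96, 0),
  (171, 2),
  (172, 1),
  (173, 4),
  (174, 0),
  (175, 3),
  (176, 2),
  (38, 0),
  (178, 3),
  (179, 2),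
  (180, 1),
  (181, 4),
  (182, 0),
  (183, 3),
  (184, 2),
  (73, 4),
  (186, 3),
  (187, 2),
  (188, 1),
  (189, 0),
  (190, 4),
  (106, 3),
  (192, 4),
  (193, 3),
  (194, 2),
  (195, 1),
  (51, 2),
  (197, 3),
  (198, 2),
  (199, 4),
  (200, 3),
  (201, 2),
  (51, 3),
  (203, 4),
  (204, 3),
  (205, 2),
  (206, 1),
  (207, 0),
  (208, 3),
  (75, 1),
  (210, 4),
  (211, 3),
  (35, 2),
  (141, 4),
  (214, 3),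
  (215, 2),
  (163, 4),
  (217, 3),
  (218, 2),
  (219, 1),
  (220, 0),
  (221, 2),
  (124, 4),
  (162, 0),
  (224, 2),
  (225, 1),
  (226, 0),
  (29, 4),
  (228, 0),
  (229, 3),
  (74, 4),
  (231, 3),
  (232, 2),
  (12, 2),
  (234, 4),
  (235, 3),
  (13, 1),
  (237, 2),
  (238, 0),
  (239, 1),
  (240, 3),
  (241, 0),
  (242, 2),
  (153, 4),
  (244, 3),
  (245, 2),
  (28, 4),
  (247, 3),
  (248, 2),
  (249, 1),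
  (250, 0),
  (251, 4),
  (4, 4),
  (253, 3),
  (254, 2),
  (255, 1),
  (256, 0),
  (257, 4),
  (135, 4),
  (259, 3),
  (260, 2),
  (261, 1),
  (262, 0),
  (263, 3),
  (12, 4),
  (265, 3),
  (4, 3),
  (267, 2),
  (268, 1),
  (269, 4),
  (270, 0),
  (271, 3),
  (154, 4),
  (273, 3),
  (240, 4),
  (152, 4),
  (276, 3),
  (277, 2),
  (278, 1),
  (279, 0),
  (280, 4),
  (197, 1),
  (282, 0),
  (283, 4),
  (284, 3),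
  (2, 4),
  (286, 3),
  (287, 2),
  (288, 1),
  (289, 0),
  (290, 4),
  (137, 4),
  (292, 3),
  (50, 3),
  (294, 2),
  (295, 4),
  (296, 3),
  (5, 0),
  (298, 4),
  (299, 3),
  (300, 2),
  (301, 1),
  (302, 0),
  (303, 4),
  (234, 1),
  (305, 4),
  (306, 3),
  (138, 4),
  (308, 3),
  (309, 2),
  (65, 4),
  (311, 0),
  (312, 3),
  (203, 2),
  (314, 1),
  (315, 4),
  (316, 0),
  (317, 3),
  (53, 4),
  (140, 4),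
  (320, 3),
  (321, 2),
  (41, 4),
  (323, 3),
  (324, 2),
  (325, 1),
  (326, 0),
  (238, 1),
  (328, 3),
  (329, 4),
  (330, 3),
  (331, 2),
  (332, 1),
  (333, 0),
  (76, 3),
  (335, 2),
  (336, 1),
  (337, 4),
  (338, 0),
  (339, 3),
  (340, 2),
  (240, 0),
  (342, 3),
  (343, 2),
  (344, 4),
  (345, 3),
  (346, 2),
  (347, 1),
  (348, 0),
  (36, 4),
  (350, 3),
  (351, 2),
  (134, 0),
  (353, 4),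
  (89, 3),
  (355, 2),
  (356, 1),
  (357, 4),
  (358, 0),
  (80, 0),
  (360, 4),
  (361, 3),
  (362, 2),
  (174, 3),
  (364, 2),
  (365, 1),
  (366, 0),
  (36, 1),
  (368, 3),
  (369, 0),
  (370, 2),
  (371, 1),
  (372, 4),
  (373, 0),
  (374, 3),
  (375, 2),
  (376, 1),
  (377, 0),
  (24, 4),
  (379, 3),
  (380, 2),
  (290, 3),
  (66, 4),
  (383, 3),
  (384, 2),
  (385, 1),
  (386, 0),
  (28, 3),
  (388, 2),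
  (389, 4),
  (390, 3),
  (53, 1),
  (392, 0),
  (393, 3),
  (394, 2),
  (395, 1),
  (396, 4),
  (397, 3),
  (398, 2),
  (106, 1),
  (400, 0),
  (401, 4),
  (402, 3),
  (403, 2),
  (404, 1),
  (405, 0),
  (171, 4),
  (407, 3),
  (408, 2),
  (409, 1),
  (410, 0),
  (411, 3),
  (86, 3),
  (413, 2),
  (414, 1),
  (415, 0),
  (138, 2),
  (164, 3),
  (418, 0),
  (419, 2),
  (420, 1),
  (421, 4),
  (422, 3),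
  (357, 0),
  (52, 3),
  (425, 2),
  (426, 1),
  (427, 0),
  (428, 4),
  (429, 3),
  (392, 3),
  (431, 0),
  (432, 2),
  (433, 1),
  (434, 4),
  (435, 3),
  (436, 2),
  (437, 1),
  (438, 0),
  (165, 3),
  (440, 2),
  (441, 1),
  (442, 4),
  (443, 0),
  (444, 3),
  (445, 2),
  (446, 1),
  (447, 0),
  (99, 0),
  (449, 3),
  (154, 2),
  (451, 1),
  (452, 4),
  (453, 3),
  (87, 3),
  (455, 2),
  (456, 1),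
  (457, 0),
  (433, 4),
  (459, 3),
  (392, 4),
  (461, 0),
  (178, 2),
  (463, 4),
  (464, 3),
  (178, 4),
  (466, 3),
  (369, 2),
  (468, 1),
  (469, 4),
  (470, 0),
  (471, 3),
  (394, 4),
  (473, 3),
  (474, 2),
  (96, 4),
  (476, 3),
  (477, 2),
  (478, 1),
  (479, 0),
  (418, 2),
  (481, 4),
  (481, 1),
  (483, 4),
  (484, 3),
  (64, 4),
  (486, 3),
  (487, 2),
  (488, 1),
  (489, 0),
  (490, 2),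
  (26, 4),
  (6, 2),
  (493, 1),
  (494, 4),
  (495, 0),
  (496, 3),
  (497, 2),
  (498, 1),
  (499, 0),
  (295, 1),
  (501, 4),
  (502, 3),
  (503, 2),
  (504, 1),
  (505, 0),
  (506, 1)]

/-- The image of each coset and the element of the subgroup. -/
def stepL : List (List (ℕ × ℕ)) := [
  [(0, 1), (2, 0), (4, 0), (3, 11), (1, 0), (9, 0), (6, 22), (15, 0), (18, 0), (20, 0), (16, 27), (26, 0), (12, 35), (13, 11), (27, 0), (23, 47), (30, 0), (32, 0), (29, 49), (28, 55), (5, 0), (17, 61), (11, 0), (7, 47), (37, 0), (19, 25), (22, 0), (40, 67), (25, 71), (8, 49), (10, 75), (24, 75), (21, 61), (45, 83), (38, 84), (47, 95), (48, 101), (31, 27), (41, 8), (44, 27), (14, 8), (34, 105), (35, 118), (36, 122), (49, 75), (46, 131), (33, 28), (42, 134), (43, 128), (39, 0)],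
  [(0, 50), (3, 0), (4, 22), (1, 0), (2, 11), (10, 0), (6, 139), (16, 0), (19, 0), (21, 0), (5, 0), (25, 144), (12, 149), (13, 139), (28, 0), (20, 75), (7, 0), (30, 151), (22, 84), (8, 0), (15, 27), (9, 0), (18, 154), (32, 161), (38, 0), (11, 163), (40, 0), (29, 166), (14, 0), (27, 166), (17, 151), (34, 49), (23, 21), (33, 50), (31, 49), (45, 170), (39, 177), (37, 123), (24, 0), (36, 185), (26, 0), (41, 12), (42, 191), (43, 196), (48, 49), (35, 202), (47, 209), (46, 212), (44, 49), (49, 123)],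
  [(0, 36), (1, 139), (4, 139), (6, 0), (2, 139), (11, 0), (3, 0), (8, 49), (7, 49), (22, 0), (24, 0), (5, 0), (12, 213), (13, 216), (14, 12), (29, 0), (31, 0), (17, 222), (23, 149), (34, 0), (26, 0), (32, 223), (9, 0), (18, 149), (10, 0), (38, 163), (20, 0), (40, 227), (41, 0), (15, 0), (37, 75), (16, 0), (21, 230), (46, 0), (19, 0), (42, 34), (43, 233), (30, 27), (25, 144), (39, 236), (27, 243), (28, 0), (35, 246), (36, 252), (49, 61), (45, 216), (33, 0), (47, 258), (48, 236), (44, 61)],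
  [(0, 12), (1, 216), (4, 216), (3, 216), (2, 216), (5, 236), (13, 0), (17, 0), (8, 236), (20, 236), (10, 236), (14, 264), (12, 266), (6, 0), (11, 272), (21, 61), (30, 151), (7, 0), (29, 274), (19, 236), (9, 236), (15, 61), (27, 264), (32, 47), (39, 0), (28, 275), (40, 281), (22, 272), (25, 285), (18, 291), (16, 151), (44, 0), (23, 47), (33, 266), (48, 0), (47, 293), (38, 177), (49, 0), (36, 185), (24, 0), (26, 281), (43, 297), (42, 304), (41, 307), (31, 0), (46, 310), (45, 313), (35, 318), (34, 0), (37, 0)],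
  [(0, 85), (1, 242), (4, 242), (3, 242), (2, 242), (7, 47), (6, 242), (5, 47), (11, 149), (23, 0), (16, 47), (8, 149), (13, 319), (12, 229), (14, 322), (20, 47), (10, 47), (17, 180), (22, 149), (25, 327), (15, 47), (32, 161), (18, 149), (9, 0), (31, 47), (19, 334), (29, 47), (40, 341), (28, 322), (26, 47), (30, 349), (24, 47), (21, 21), (43, 352), (38, 149), (44, 171), (46, 354), (37, 359), (34, 149), (47, 363), (27, 367), (41, 322), (49, 378), (33, 214), (35, 239), (48, 381), (36, 382), (39, 387), (45, 391), (42, 399)],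
  [(1, 0), (0, 264), (5, 0), (7, 0), (8, 0), (12, 0), (14, 0), (4, 313), (3, 313), (19, 406), (25, 0), (2, 412), (17, 257), (11, 416), (13, 417), (18, 423), (26, 424), (6, 180), (33, 0), (35, 0), (10, 430), (36, 0), (20, 439), (9, 448), (21, 239), (22, 450), (29, 454), (31, 458), (24, 460), (42, 0), (43, 0), (45, 0), (44, 462), (47, 0), (32, 344), (40, 465), (16, 467), (48, 472), (30, 475), (34, 480), (38, 482), (37, 485), (28, 304), (23, 491), (46, 492), (39, 416), (27, 313), (41, 436), (49, 500), (15, 507)]]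

/-- The images of each coset. -/
def permL : List (List ℕ) := [
  [0, 2, 4, 3, 1, 9, 6, 15, 18, 20, 16, 26, 12, 13, 27, 23, 30, 32, 29, 28, 5, 17, 11, 7, 37, 19, 22, 40, 25, 8, 10, 24, 21, 45, 38, 47, 48, 31, 41, 44, 14, 34, 35, 36, 49, 46, 33, 42, 43, 39],
  [0, 3, 4, 1, 2, 10, 6, 16, 19, 21, 5, 25, 12, 13, 28, 20, 7, 30, 22, 8, 15, 9, 18, 32, 38, 11, 40, 29, 14, 27, 17, 34, 23, 33, 31, 45, 39, 37, 24, 36, 26, 41, 42, 43, 48, 35, 47, 46, 44, 49],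
  [0, 1, 4, 6, 2, 11, 3, 8, 7, 22, 24, 5, 12, 13, 14, 29, 31, 17, 23, 34, 26, 32, 9, 18, 10, 38, 20, 40, 41, 15, 37, 16, 21, 46, 19, 42, 43, 30, 25, 39, 27, 28, 35, 36, 49, 45, 33, 47, 48, 44],
  [0, 1, 4, 3, 2, 5, 13, 17, 8, 20, 10, 14, 12, 6, 11, 21, 30, 7, 29, 19, 9, 15, 27, 32, 39, 28, 40, 22, 25, 18, 16, 44, 23, 33, 48, 47, 38, 49, 36, 24, 26, 43, 42, 41, 31, 46, 45, 35, 34, 37],
  [0, 1, 4, 3, 2, 7, 6, 5, 11, 23, 16, 8, 13, 12, 14, 20, 10, 17, 22, 25, 15, 32, 18, 9, 31, 19, 29, 40, 28, 26, 30, 24, 21, 43, 38, 44, 46, 37, 34, 47, 27, 41, 49, 33, 35, 48, 36, 39, 45, 42],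
  [1, 0, 5, 7, 8, 12, 14, 4, 3, 19, 25, 2, 17, 11, 13, 18, 26, 6, 33, 35, 10, 36, 20, 9, 21, 22, 29, 31, 24, 42, 43, 45, 44, 47, 32, 40, 16, 48, 30, 34, 38, 37, 28, 23, 46, 39, 27, 41, 49, 15]]

/-- The preimages of each coset. -/
def permInvL : List (List ℕ) := [
  [0, 4, 1, 3, 2, 20, 6, 23, 29, 5, 30, 22, 12, 13, 40, 7, 10, 21, 8, 25, 9, 32, 26, 15, 31, 28, 11, 14, 19, 18, 16, 37, 17, 46, 41, 42, 43, 24, 34, 49, 27, 38, 47, 48, 39, 33, 45, 35, 36, 44],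
  [0, 3, 4, 1, 2, 10, 6, 16, 19, 21, 5, 25, 12, 13, 28, 20, 7, 30, 22, 8, 15, 9, 18, 32, 38, 11, 40, 29, 14, 27, 17, 34, 23, 33, 31, 45, 39, 37, 24, 36, 26, 41, 42, 43, 48, 35, 47, 46, 44, 49],
  [0, 1, 4, 6, 2, 11, 3, 8, 7, 22, 24, 5, 12, 13, 14, 29, 31, 17, 23, 34, 26, 32, 9, 18, 10, 38, 20, 40, 41, 15, 37, 16, 21, 46, 19, 42, 43, 30, 25, 39, 27, 28, 35, 36, 49, 45, 33, 47, 48, 44],
  [0, 1, 4, 3, 2, 5, 13, 17, 8, 20, 10, 14, 12, 6, 11, 21, 30, 7, 29, 19, 9, 15, 27, 32, 39, 28, 40, 22, 25, 18, 16, 44, 23, 33, 48, 47, 38, 49, 36, 24, 26, 43, 42, 41, 31, 46, 45, 35, 34, 37],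
  [0, 1, 4, 3, 2, 7, 6, 5, 11, 23, 16, 8, 13, 12, 14, 20, 10, 17, 22, 25, 15, 32, 18, 9, 31, 19, 29, 40, 28, 26, 30, 24, 21, 43, 38, 44, 46, 37, 34, 47, 27, 41, 49, 33, 35, 48, 36, 39, 45, 42],
  [1, 0, 11, 8, 7, 2, 17, 3, 4, 23, 20, 13, 5, 14, 6, 49, 36, 12, 15, 9, 22, 24, 25, 43, 28, 10, 16, 46, 42, 26, 38, 27, 34, 18, 39, 19, 21, 41, 40, 45, 35, 47, 29, 30, 32, 31, 44, 33, 37, 48]]

end Cfsg.Agent.PSU35.Cosets
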