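import Mathlib
import Cfsg.Agent.PSU35.Alt7
import Cfsg.Agent.PSU35.CosetData

/-!
# Kernel checks of the tables for `PSU₃(5)` on 50 points
-/

set_option autoImplicit false

namespace Cfsg.Agent.PSU35.Cosets

open Matrix Cfsg.Agent.Unitary Cfsg.Agent.PSU35

/-- The matrices over the field with 25 elements. -/
abbrev M3 : Type := Matrix (Fin 3) (Fin 3) K25

/-- A matrix from a table. -/
def toM (l : List (ℕ × ℕ)) : M3 := fun i j =>
  ⟨((l.getD (3 * i.val + j.val) (0, 0)).1 : ZMod 5), ((l.getD (3 * i.val + j.val) (0, 0)).2 : ZMod 5)⟩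

/-- The six generators. -/
def gen6 (i : Fin 6) : M3 := if h : i.val < 5 then gen ⟨i.val, h⟩ else toM (extraL.getD 0 [])

/-- Tabulated powers of the sixth generator. -/
def extra (k : ℕ) : M3 := toM (extraL.getD k [])

/-- The representatives. -/
def rep (k : ℕ) : M3 := toM (repL.getD k [])

/-- The elements of the subgroup. -/
def sub (k : ℕ) : M3 := toM (subL.getD k [])

/-- Equality up to the scalars of order dividing three. -/
abbrev Eqv (M N : M3) : Prop :=
  M = N ∨ M = (⟨2, 2⟩ : K25) • N ∨ M = (⟨2, 3⟩ : K25) • N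

theorem gen6_unitary : ∀ i, star25 (gen6 i) * gen6 i = 1 := by decide +kernel

theorem gen6_det : ∀ i, (gen6 i).det = 1 := by
  intro i
  rw [Matrix.det_fin_three]
  revert i
  decide +kernel

theorem rep_zero : rep 0 = 1 := by decide +kernel

theorem rep_check : ∀ k : Fin 50, k.val ≠ 0 →
    ∃ i : Fin 6, i.val = (repP.getD k.val (0, 0)).2 ∧ (repP.getD k.val (0, 0)).1 < k.val ∧
      gen6 i * rep (repP.getD k.val (0, 0)).1 = rep k.val := by
  decide +kernel

theorem sub_zero' : sub 0 = 1 := by decide +kernel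

theorem sub_check : ∀ k : Fin 508, k.val ≠ 0 →
    ∃ i : Fin 6, i.val < 5 ∧ i.val = (subP.getD k.val (0, 0)).2 ∧
      (subP.getD k.val (0, 0)).1 < k.val ∧
      sub (subP.getD k.val (0, 0)).1 * gen6 i = sub k.val := by
  decide +kernel

/-- The image of a coset. -/
def img (i : Fin 6) (j : Fin 50) : ℕ := ((stepL.getD i.val []).getD j.val (0, 0)).1

/-- The element of the subgroup in a step. -/
def subIdx (i : Fin 6) (j : Fin 50) : ℕ := ((stepL.getD i.val []).getD j.val (0, 0)).2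

theorem step_check : ∀ (i : Fin 6) (j : Fin 50),
    img i j < 50 ∧ subIdx i j < 508 ∧
      Eqv (gen6 i * rep j.val) (rep (img i j) * sub (subIdx i j)) := by
  decide +kernel

theorem perm_check : ∀ (i : Fin 6) (j : Fin 50),
    img i j = (permL.getD i.val []).getD j.val 0 ∧ (permInvL.getD i.val []).getD j.val 0 < 50 ∧
    (permInvL.getD i.val []).getD ((permL.getD i.val []).getD j.val 0) 0 = j.val ∧
    (permL.getD i.val []).getD ((permInvL.getD i.val []).getD j.val 0) 0 = j.val := by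
  decide +kernel

/-- The permutation of the 50 cosets of a generator. -/
def permE (i : Fin 6) : Equiv.Perm (Fin 50) where
  toFun j := ⟨(permL.getD i.val []).getD j.val 0, by
    rw [← (perm_check i j).1]; exact (step_check i j).1⟩
  invFun j := ⟨(permInvL.getD i.val []).getD j.val 0, (perm_check i j).2.1⟩
  left_inv j := Fin.ext (perm_check i j).2.2.1
  right_inv j := Fin.ext (perm_check i j).2.2.2

theorem extra_check : gen6 5 = extra 0 ∧ Eqv (extra 0 * extra 0) (extra 1) ∧
    Eqv (extra 1 * extra 1) (extra 2) ∧ Eqv (extra 2 * extra 2) (extra 3) ∧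
    IsScal (extra 3) ∧ ¬ IsScal (extra 2) := by
  decide +kernel

theorem w_mul : (⟨2, 2⟩ : K25) * ⟨2, 2⟩ = ⟨2, 3⟩ ∧ (⟨2, 3⟩ : K25) * ⟨2, 3⟩ = ⟨2, 2⟩ ∧
    (⟨2, 3⟩ : K25) * ⟨2, 2⟩ = 1 ∧ (⟨2, 2⟩ : K25) * ⟨2, 3⟩ = 1 := by
  decide +kernel

theorem Eqv.trans {A B C : M3} (h : Eqv A B) (h' : Eqv B C) : Eqv A C := by
  obtain ⟨u11, u22, u1, u2⟩ := w_mul
  rcases h with rfl | rfl | rfl <;> rcases h' with rfl | rfl | rfl <;>
    simp [Eqv, smul_smul, u11, u22, u1, u2]

theorem Eqv.sq {M N : M3} (h : Eqv M N) : Eqv (M * M) (N * N) := by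
  obtain ⟨u11, u22, u1, u2⟩ := w_mul
  rcases h with rfl | rfl | rfl
  · exact Or.inl rfl
  · exact Or.inr (Or.inr (by rw [Matrix.smul_mul, Matrix.mul_smul, smul_smul, u11]))
  · exact Or.inr (Or.inl (by rw [Matrix.smul_mul, Matrix.mul_smul, smul_smul, u22]))

theorem isScal_smul (w : K25) {N : M3} (h : IsScal N) : IsScal (w • N) := by
  show w • N = Matrix.diagonal fun _ => (w • N) 0 0
  ext1 a b
  rw [Matrix.smul_apply, congrFun (congrFun h a) b, Matrix.diagonal_apply, Matrix.diagonal_apply]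
  split
  · rw [Matrix.smul_apply]
  · rw [smul_zero]

theorem Eqv.isScal {M N : M3} (h : Eqv M N) : IsScal M ↔ IsScal N := by
  obtain ⟨u11, u22, u1, u2⟩ := w_mul
  rcases h with rfl | rfl | rfl
  · exact Iff.rfl
  · exact ⟨fun h => by simpa [smul_smul, u1] using isScal_smul ⟨2, 3⟩ h, isScal_smul _⟩
  · exact ⟨fun h => by simpa [smul_smul, u2] using isScal_smul ⟨2, 2⟩ h, isScal_smul _⟩

end Cfsg.Agent.PSU35.Cosets
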