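import Mathlib
import Cfsg.Agent.S2149
import Cfsg.Agent.PSU35.CosetChecks

/-!
# `PSU₃(5)` as a group of permutations of 50 points, with explicit generators
-/

set_option autoImplicit false

namespace Cfsg.Agent.PSU35.Cosets

open Matrix Cfsg.Agent.Unitary Cfsg.Agent.PSU35

theorem pow_four_of_pow_eight {y : Equiv.Perm (Fin 7)} (h : y ^ 8 = 1) : y ^ 4 = 1 := by
  rw [← orderOf_dvd_iff_pow_eq_one, ← Equiv.Perm.lcm_cycleType]
  refine Multiset.lcm_dvd.2 fun a ha => ?_
  have h8 : a ∣ 8 :=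
    (Equiv.Perm.dvd_of_mem_cycleType ha).trans (orderOf_dvd_iff_pow_eq_one.2 h)
  have hle : a ≤ 7 := by
    have h1 := Multiset.le_sum_of_mem ha
    rw [Equiv.Perm.sum_cycleType] at h1
    exact h1.trans ((Finset.card_le_univ _).trans (by simp))
  interval_cases a <;> omega

variable {F : Type*} [Field F] [Fintype F]

theorem exists_emb [CharP F 5] (hF : Fintype.card F = 5 ^ 2) :
    ∃ φ : K25 →+* F, Function.Injective φ ∧ ∀ z : K25, φ z ^ 5 = φ ⟨z.re, -z.im⟩ := by
  haveI : Fact (Nat.Prime 5) := ⟨Nat.prime_five⟩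
  letI : Algebra (ZMod 5) F := ZMod.algebra F 5
  obtain ⟨r, hr⟩ : ∃ r : F, r * r = 2 := by
    obtain ⟨g, hg⟩ := IsCyclic.exists_ofOrder_eq_natCard (α := Fˣ)
    rw [Nat.card_units, Nat.card_eq_fintype_card, hF] at hg
    have h2 : (2 : F) ^ 12 = 1 := by
      have h5 : (5 : F) = 0 := CharP.cast_eq_zero F 5
      linear_combination (819 : F) * h5
    have h20 : (2 : F) ≠ 0 := fun h => by simp [h] at h2
    obtain ⟨k, hk⟩ := mem_powers_iff_mem_zpowers.2
      (show Units.mk0 (2 : F) h20 ∈ Subgroup.zpowers g by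
        rw [Subgroup.eq_top_of_card_eq (Subgroup.zpowers g) (by
          rw [Nat.card_zpowers, hg, Nat.card_units, Nat.card_eq_fintype_card, hF])]
        trivial)
    have hk12 : g ^ (k * 12) = 1 := by
      rw [pow_mul, show g ^ k = Units.mk0 (2 : F) h20 from hk]
      exact Units.ext (by simpa using h2)
    rw [← orderOf_dvd_iff_pow_eq_one, hg] at hk12
    obtain ⟨l, hl⟩ : 2 ∣ k := by omega
    refine ⟨((g ^ l : Fˣ) : F), ?_⟩
    rw [← Units.val_mul, ← pow_add, show l + l = k by omega, show g ^ k = Units.mk0 (2 : F) h20 from hk]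
    rfl
  have hr' : r * r = (2 : ZMod 5) • (1 : F) + (0 : ZMod 5) • r := by
    rw [zero_smul, add_zero, Algebra.smul_def, mul_one, map_ofNat, hr]
  let φ : K25 →ₐ[ZMod 5] F := QuadraticAlgebra.lift ⟨r, hr'⟩
  have hr5 : r ^ 5 = -r := by
    have h5 : (5 : F) = 0 := CharP.cast_eq_zero F 5
    linear_combination (r * (r * r + 2)) * hr + r * h5
  have hconj : ∀ z : K25, φ z ^ 5 = φ ⟨z.re, -z.im⟩ := by
    intro z
    show (z.re • (1 : F) + z.im • r) ^ 5 = z.re • (1 : F) + (-z.im) • r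
    rw [add_pow_char, Algebra.smul_def, Algebra.smul_def, Algebra.smul_def, mul_pow, mul_pow,
      ← map_pow, ← map_pow, ZMod.pow_card, ZMod.pow_card, hr5, map_neg]
    ring
  have hφ : Function.Injective φ := by
    intro a b hab
    have : (a.re • (1 : F) + a.im • r) = b.re • (1 : F) + b.im • r := hab
    rw [Algebra.smul_def, Algebra.smul_def, Algebra.smul_def, Algebra.smul_def, mul_one, mul_one]
      at this
    have hinj := (algebraMap (ZMod 5) F).injective
    have him : a.im = b.im := by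
      by_contra hne
      have hd : (algebraMap (ZMod 5) F) (a.im - b.im) ≠ 0 := fun h0 =>
        hne (sub_eq_zero.1 (hinj (h0.trans (map_zero _).symm)))
      have hrr : r = algebraMap (ZMod 5) F ((b.re - a.re) * (a.im - b.im)⁻¹) := by
        rw [map_mul, map_inv₀, map_sub]
        field_simp
        rw [map_sub] at hd ⊢
        linear_combination this
      refine sq_ne_two ((b.re - a.re) * (a.im - b.im)⁻¹) (hinj ?_)
      rw [map_mul, ← hrr, hr, map_ofNat]
    refine QuadraticAlgebra.ext ?_ him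
    rw [him] at this
    exact hinj (add_right_cancel this)
  exact ⟨φ.toRingHom, hφ, hconj⟩

variable (φ : K25 →+* F) (hφ : ∀ z : K25, φ z ^ 5 = φ ⟨z.re, -z.im⟩)
  (hF : Fintype.card F = 5 ^ 2)

/-- A class of `PSU₃(5)` given by a matrix over `K25`. -/
def Lift (M : M3) (g : Cfsg.PSU 3 F 5) : Prop :=
  ∃ s : SU 3 F 5, (s.1 : Matrix (Fin 3) (Fin 3) F) = M.map φ ∧ ((s : SU 3 F 5) : Cfsg.PSU 3 F 5) = g

omit [Fintype F] in
theorem Lift.mul {M N : M3} {g h : Cfsg.PSU 3 F 5} (hg : Lift φ M g) (hh : Lift φ N h) :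
    Lift φ (M * N) (g * h) := by
  obtain ⟨s, hs, rfl⟩ := hg
  obtain ⟨t, ht, rfl⟩ := hh
  refine ⟨s * t, ?_, rfl⟩
  show (s.1 : Matrix (Fin 3) (Fin 3) F) * (t.1 : Matrix (Fin 3) (Fin 3) F) = _
  rw [hs, ht, Matrix.map_mul]

omit [Fintype F] in
theorem Lift.one : Lift φ 1 (1 : Cfsg.PSU 3 F 5) :=
  ⟨1, (Matrix.map_one φ (map_zero φ) (map_one φ)).symm, rfl⟩

include hF in
theorem Lift.eq_of_scalar {M : M3} {g : Cfsg.PSU 3 F 5} (hg : Lift φ M g) (hM : IsScal M) :
    g = 1 := by
  obtain ⟨s, hs, rfl⟩ := hg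
  rw [QuotientGroup.eq_one_iff, mem_center_iff hF (by norm_num)]
  refine ⟨φ (M 0 0), fun x => ?_⟩
  show (s.1 : Matrix (Fin 3) (Fin 3) F) *ᵥ x = φ (M 0 0) • x
  have : (s.1 : Matrix (Fin 3) (Fin 3) F) = φ (M 0 0) • (1 : Matrix (Fin 3) (Fin 3) F) := by
    ext i j
    rw [hs, Matrix.map_apply, congrFun (congrFun hM i) j, Matrix.diagonal_apply,
      Matrix.smul_apply, Matrix.one_apply]
    split <;> simp
  rw [this, Matrix.smul_mulVec, Matrix.one_mulVec]

include hF in
theorem Lift.eq_of_eqv {M N : M3} {g h : Cfsg.PSU 3 F 5} (hg : Lift φ M g) (hh : Lift φ N h)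
    (e : Eqv M N) : g = h := by
  obtain ⟨w, rfl⟩ : ∃ w : K25, M = w • N := by
    rcases e with e | e | e
    · exact ⟨1, by rw [e, one_smul]⟩
    · exact ⟨_, e⟩
    · exact ⟨_, e⟩
  obtain ⟨s, hs, rfl⟩ := hg
  obtain ⟨t, ht, rfl⟩ := hh
  refine (QuotientGroup.eq.2 ?_).symm
  rw [mem_center_iff hF (by norm_num)]
  refine ⟨φ w, fun x => ?_⟩
  have h1 : ((t⁻¹ : SU 3 F 5).1 : Matrix (Fin 3) (Fin 3) F) *
      (t.1 : Matrix (Fin 3) (Fin 3) F) = 1 :=
    congrArg (fun z : SU 3 F 5 => (z.1 : Matrix (Fin 3) (Fin 3) F)) (inv_mul_cancel t)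
  have hsm : (s.1 : Matrix (Fin 3) (Fin 3) F) = φ w • (t.1 : Matrix (Fin 3) (Fin 3) F) := by
    rw [hs, ht]
    ext i j
    simp
  show (((t⁻¹ : SU 3 F 5).1 : Matrix (Fin 3) (Fin 3) F) * (s.1 : Matrix (Fin 3) (Fin 3) F)) *ᵥ x = _
  rw [hsm, Matrix.mul_smul, h1, Matrix.smul_mulVec, Matrix.one_mulVec]

include hφ hF in
theorem exists_gen_lift [CharP F 5] (i : Fin 6) : ∃ g : Cfsg.PSU 3 F 5, Lift φ (gen6 i) g := by
  haveI : Fact (Nat.Prime 5) := ⟨Nat.prime_five⟩
  let s : Fin 6 → Matrix.SpecialLinearGroup (Fin 3) F := fun i =>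
    ⟨(gen6 i).map φ, by rw [← RingHom.mapMatrix_apply, ← RingHom.map_det, gen6_det, map_one]⟩
  have hs : ∀ i, s i ∈ SU 3 F 5 := by
    intro i x y
    show herm 5 (((gen6 i).map φ) *ᵥ x) (((gen6 i).map φ) *ᵥ y) = herm 5 x y
    have h : ∀ j k, ∑ l, φ (gen6 i l j) ^ 5 * φ (gen6 i l k) = if j = k then 1 else 0 := by
      intro j k
      have h := congrArg φ (congrFun (congrFun (gen6_unitary i) j) k)
      simp only [Matrix.mul_apply, map_sum, map_mul, star25] at h
      simp only [hφ]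
      rw [h, Matrix.one_apply]
      split <;> simp
    have e : ∀ (j k : Fin 3), ∑ l, φ (gen6 i l j) * φ (gen6 i l k) ^ 5 = if j = k then 1 else 0 := by
      intro j k
      have h' := h k j
      simp only [eq_comm (a := k)] at h'
      rw [← h']
      exact Finset.sum_congr rfl fun l _ => mul_comm _ _
    simp only [herm, hermForm, Matrix.mulVec, dotProduct, Matrix.map_apply, sum_pow_q hF, mul_pow,
      Finset.sum_mul, Finset.mul_sum]
    rw [Finset.sum_comm]
    refine Finset.sum_congr rfl fun j _ => ?_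
    rw [Finset.sum_comm]
    calc ∑ k, ∑ l, φ (gen6 i l k) * x k * (φ (gen6 i l j) ^ 5 * y j ^ 5)
        = ∑ k, (∑ l, φ (gen6 i l k) * φ (gen6 i l j) ^ 5) * (x k * y j ^ 5) := by
          refine Finset.sum_congr rfl fun k _ => ?_
          rw [Finset.sum_mul]
          exact Finset.sum_congr rfl fun l _ => by ring
      _ = x j * y j ^ 5 := by simp only [e]; simp
  exact ⟨((⟨s i, hs i⟩ : SU 3 F 5) : Cfsg.PSU 3 F 5), ⟨s i, hs i⟩, rfl, rfl⟩

include hF in
/-- `PSU₃(5)` is the group generated by the six tabulated permutations. -/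
theorem exists_perm_hom :
    Nat.card (Cfsg.PSU 3 F 5) = 126000 ∧
      ∃ ψ : Cfsg.PSU 3 F 5 →* Equiv.Perm (Fin 50), Function.Injective ψ ∧
        ψ.range = Subgroup.closure (Set.range permE) := by
  classical
  have hF25 : Fintype.card F = 25 := by rw [hF]; norm_num
  haveI : Fact (Nat.Prime 5) := ⟨Nat.prime_five⟩
  haveI : CharP F 5 := by
    have hd : ringChar F ∣ 5 := by
      obtain ⟨n, hp, hn⟩ := FiniteField.card F (ringChar F)
      have h : ringChar F ∣ 5 ^ 2 := by rw [← hF, hn]; exact dvd_pow_self _ n.ne_zero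
      exact hp.dvd_of_dvd_pow h
    have := (FiniteField.card F (ringChar F)).choose_spec.1
    rw [← (Nat.prime_dvd_prime_iff_eq this Nat.prime_five).1 hd]
    exact ringChar.charP F
  have hG : Nat.card (Cfsg.PSU 3 F 5) = 126000 := by
    have h := card_PSU (F := F) hF (n := 3) (by norm_num)
    simp [Finset.prod_range_succ, Nat.even_iff] at h
    show Nat.card (SU 3 F 5 ⧸ Subgroup.center (SU 3 F 5)) = 126000
    rw [Nat.card_eq_fintype_card]
    omega
  refine ⟨hG, ?_⟩
  obtain ⟨φ, hinj, hφ⟩ := exists_emb (F := F) hF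
  choose T hT using exists_gen_lift φ hφ hF
  -- the subgroup generated by the first five
  let T5 : Fin 5 → Cfsg.PSU 3 F 5 := fun i => T i.castSucc
  have hT5 : ∀ i : Fin 5, Lift φ (gen i) (T5 i) := fun i => by
    have e : gen6 i.castSucc = gen i := by
      rw [gen6, dif_pos (show (i.castSucc : Fin 6).val < 5 from i.isLt)]
      rfl
    exact e ▸ hT i.castSucc
  have hrels : ∀ x ∈ S3335.rels 5, FreeGroup.lift T5 x = 1 := by
    refine S3335.lift_rels T5 ?_ ?_ ?_ ?_
    · intro i hi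
      obtain rfl : i = 0 := Fin.ext hi
      rw [pow_succ, pow_two]
      exact (((hT5 0).mul φ (hT5 0)).mul φ (hT5 0)).eq_of_scalar φ hF gen_rels.1
    · intro i hi
      rw [pow_two]
      exact ((hT5 i).mul φ (hT5 i)).eq_of_scalar φ hF (gen_rels.2.1 i hi)
    · intro i j hij
      rw [pow_succ, pow_two]
      exact ((((hT5 i).mul φ (hT5 j)).mul φ ((hT5 i).mul φ (hT5 j))).mul φ
        ((hT5 i).mul φ (hT5 j))).eq_of_scalar φ hF (gen_rels.2.2.1 i j hij)
    · intro i j hij
      rw [pow_two]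
      exact (((hT5 i).mul φ (hT5 j)).mul φ ((hT5 i).mul φ (hT5 j))).eq_of_scalar φ hF
        (gen_rels.2.2.2 i j hij)
  obtain ⟨e⟩ := S3335.result 7 (by norm_num)
  let f₀ : PresentedGroup (S3335.rels 5) →* Cfsg.PSU 3 F 5 := PresentedGroup.toGroup hrels
  let f := f₀.comp e.symm.toMonoidHom
  have hne : ∀ {M : M3}, Lift φ M (1 : Cfsg.PSU 3 F 5) → IsScal M := by
    rintro M ⟨s, hs, h1⟩
    rw [QuotientGroup.eq_one_iff, mem_center_iff hF (by norm_num)] at h1
    obtain ⟨c, hc⟩ := h1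
    have hcol : ∀ i j, φ (M i j) = if i = j then c else 0 := by
      intro i j
      have := congrFun (hc (Pi.single j 1)) i
      change ((s.1 : Matrix (Fin 3) (Fin 3) F) *ᵥ Pi.single j 1) i = (c • Pi.single j 1 : Fin 3 → F) i at this
      rw [hs] at this
      simpa [Pi.single_apply] using this
    show M = Matrix.diagonal fun _ => M 0 0
    ext1 i j
    apply hinj
    rw [hcol, Matrix.diagonal_apply]
    by_cases hij : i = j
    · subst hij; rw [if_pos rfl, if_pos rfl, hcol, if_pos rfl]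
    · rw [if_neg hij, if_neg hij, map_zero]
  have hfinj : Function.Injective f := by
    rw [← MonoidHom.ker_eq_bot_iff]
    haveI : IsSimpleGroup (alternatingGroup (Fin 7)) := alternatingGroup.isSimpleGroup (by simp)
    refine ((MonoidHom.normal_ker f).eq_bot_or_eq_top).resolve_right fun htop => ?_
    have h : f (e (PresentedGroup.of 0)) = 1 := by
      rw [← MonoidHom.mem_ker, htop]; trivial
    simp only [f, MonoidHom.comp_apply, MulEquiv.coe_toMonoidHom, MulEquiv.symm_apply_apply] at h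
    rw [show f₀ (PresentedGroup.of 0) = T5 0 from PresentedGroup.toGroup.of hrels] at h
    exact gen_zero_not_scal (hne (h ▸ hT5 0))
  set H : Subgroup (Cfsg.PSU 3 F 5) := f.range with hH
  have hmemH : ∀ i, T5 i ∈ H := fun i =>
    ⟨e (PresentedGroup.of i), by
      simp only [f, MonoidHom.comp_apply, MulEquiv.coe_toMonoidHom, MulEquiv.symm_apply_apply]
      exact PresentedGroup.toGroup.of hrels⟩
  have hcH : Nat.card H = 2520 := by
    rw [hH, Nat.card_congr (MonoidHom.ofInjective hfinj).symm.toEquiv, nat_card_alternatingGroup]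
    simp [Nat.factorial]
  have hHi : H.index = 50 := by
    have h := H.card_mul_index
    rw [hcH, hG] at h
    omega
  -- the sixth generator is outside the subgroup
  obtain ⟨x0, x1, x2, x3, x3s, x2n⟩ := extra_check
  have hT8 : T 5 ^ 8 = 1 ∧ T 5 ^ 4 ≠ 1 := by
    have h1 := x0 ▸ hT 5
    have l2 := h1.mul φ h1
    have l4 := l2.mul φ l2
    have l8 := l4.mul φ l4
    have p4 : T 5 ^ 4 = T 5 * T 5 * (T 5 * T 5) := by
      rw [show (4 : ℕ) = 2 + 2 from rfl, pow_add, pow_two]
    have p8 : T 5 ^ 8 = T 5 * T 5 * (T 5 * T 5) * (T 5 * T 5 * (T 5 * T 5)) := by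
      rw [show (8 : ℕ) = 2 + 2 + (2 + 2) from rfl, pow_add, pow_add, pow_two]
    have e4 : Eqv (extra 0 * extra 0 * (extra 0 * extra 0)) (extra 2) := x1.sq.trans x2
    have e8 := e4.sq.trans x3
    refine ⟨?_, fun h => x2n (e4.isScal.1 (hne (h ▸ p4 ▸ l4)))⟩
    rw [p8]
    exact l8.eq_of_scalar φ hF (e8.isScal.2 x3s)
  have hout : T 5 ∉ H := by
    rintro ⟨y, hy⟩
    refine hT8.2 ?_
    rw [← hy, ← map_pow, ← map_one f]
    congr 1
    refine Subtype.ext ?_
    have h8 : y ^ 8 = 1 := hfinj (by rw [map_pow, hy, hT8.1, map_one])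
    exact pow_four_of_pow_eight (congrArg Subtype.val h8)
  -- the six generate
  have hgen : Subgroup.closure (Set.range T) = ⊤ := by
    set K := Subgroup.closure (Set.range T) with hK
    by_contra hKt
    have h50 := (S2149.result hF25).1 K hKt
    have hle : H ≤ K := by
      rintro _ ⟨a, rfl⟩
      suffices ∀ b, f₀ b ∈ K from this _
      intro b
      refine PresentedGroup.induction_on (C := fun b => f₀ b ∈ K) b fun z => ?_
      induction z using FreeGroup.induction_on with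
      | C1 => simp
      | of i =>
        show f₀ (PresentedGroup.of i) ∈ K
        rw [show f₀ (PresentedGroup.of i) = T5 i from PresentedGroup.toGroup.of hrels]
        exact Subgroup.subset_closure ⟨_, rfl⟩
      | inv_of i hi => rw [map_inv, map_inv]; exact K.inv_mem hi
      | mul a b ha hb => rw [map_mul, map_mul]; exact K.mul_mem ha hb
    have hlt : Nat.card H < Nat.card K := by
      by_contra hc
      exact hout ((Subgroup.eq_of_le_of_card_ge hle (by omega)) ▸
        Subgroup.subset_closure (Set.mem_range_self 5))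
    have h := K.card_mul_index
    rw [hG] at h
    have := Nat.mul_le_mul_left (Nat.card K) h50
    omega
  -- lifts of the representatives and of the elements of the subgroup
  have hrep : ∀ k, k < 50 → ∃ g, Lift φ (rep k) g := by
    intro k
    induction k using Nat.strong_induction_on with
    | _ k ih =>
      intro hk
      by_cases h0 : k = 0
      · subst h0; exact ⟨1, rep_zero ▸ Lift.one φ⟩
      obtain ⟨i, -, hlt, he⟩ := rep_check ⟨k, hk⟩ h0
      obtain ⟨g, hg⟩ := ih _ hlt (lt_trans hlt hk)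
      exact ⟨_, he ▸ (hT i).mul φ hg⟩
  choose R hR using fun j : Fin 50 => hrep j.val j.isLt
  have hsub : ∀ k, k < 508 → ∃ g ∈ H, Lift φ (sub k) g := by
    intro k
    induction k using Nat.strong_induction_on with
    | _ k ih =>
      intro hk
      by_cases h0 : k = 0
      · subst h0; exact ⟨1, H.one_mem, sub_zero' ▸ Lift.one φ⟩
      obtain ⟨i, hi, -, hlt, he⟩ := sub_check ⟨k, hk⟩ h0
      obtain ⟨g, hgH, hg⟩ := ih _ hlt (lt_trans hlt hk)
      have hiH : T i ∈ H := hmemH ⟨i.val, hi⟩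
      exact ⟨_, H.mul_mem hgH hiH, he ▸ hg.mul φ (hT i)⟩
  let J : Fin 50 → Cfsg.PSU 3 F 5 ⧸ H := fun j => ((R j : Cfsg.PSU 3 F 5) : Cfsg.PSU 3 F 5 ⧸ H)
  have hJ : ∀ i j, T i • J j = J (permE i j) := by
    intro i j
    obtain ⟨hk, hs, he⟩ := step_check i j
    obtain ⟨g, hgH, hg⟩ := hsub _ hs
    have e1 : T i * R j = R ⟨img i j, hk⟩ * g :=
      Lift.eq_of_eqv φ hF ((hT i).mul φ (hR j)) ((hR ⟨img i j, hk⟩).mul φ hg) he
    show ((T i * R j : Cfsg.PSU 3 F 5) : Cfsg.PSU 3 F 5 ⧸ H) = _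
    rw [show permE i j = ⟨img i j, hk⟩ from Fin.ext (perm_check i j).1.symm, e1]
    exact QuotientGroup.eq.2 (by simpa using H.inv_mem hgH)
  have hsurj : Function.Surjective J := by
    have hinv : ∀ g ∈ Subgroup.closure (Set.range T), ∀ j, g • J j ∈ Set.range J := by
      intro g hg
      induction hg using Subgroup.closure_induction'' with
      | mem x hx => obtain ⟨i, rfl⟩ := hx; exact fun j => ⟨_, (hJ i j).symm⟩
      | inv_mem x hx =>
        obtain ⟨i, rfl⟩ := hx
        exact fun j => ⟨(permE i).symm j, by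
          rw [eq_inv_smul_iff, hJ, Equiv.apply_symm_apply]⟩
      | one => exact fun j => ⟨j, (one_smul _ _).symm⟩
      | mul x y _ _ hx hy =>
        intro j
        obtain ⟨k, hk⟩ := hy j
        obtain ⟨l, hl⟩ := hx k
        exact ⟨l, by rw [hl, hk, mul_smul]⟩
    intro q
    obtain ⟨g, rfl⟩ := QuotientGroup.mk_surjective q
    obtain ⟨k, hk⟩ := hinv (g * (R 0)⁻¹) (hgen ▸ Subgroup.mem_top _) 0
    refine ⟨k, hk.trans ?_⟩
    show ((g * (R 0)⁻¹ * R 0 : Cfsg.PSU 3 F 5) : Cfsg.PSU 3 F 5 ⧸ H) = _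
    rw [inv_mul_cancel_right]
  have hbij : Function.Bijective J := by
    rw [Nat.bijective_iff_surjective_and_card]
    exact ⟨hsurj, by rw [Nat.card_fin, ← Subgroup.index_eq_card, hHi]⟩
  let E := Equiv.ofBijective J hbij
  let ψ : Cfsg.PSU 3 F 5 →* Equiv.Perm (Fin 50) :=
    (E.symm.permCongrHom).toMonoidHom.comp (MulAction.toPermHom _ _)
  have hψ : ∀ i, ψ (T i) = permE i := fun i => Equiv.ext fun j => by
    show E.symm (T i • E j) = permE i j
    rw [Equiv.symm_apply_eq]
    exact hJ i j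
  refine ⟨ψ, ?_, ?_⟩
  · haveI := isSimpleGroup_PSU (F := F) hF (n := 3) le_rfl (by norm_num)
    rw [← MonoidHom.ker_eq_bot_iff]
    refine ((MonoidHom.normal_ker ψ).eq_bot_or_eq_top).resolve_right fun htop => ?_
    have h : ψ (T 5) = 1 := by rw [← MonoidHom.mem_ker, htop]; trivial
    rw [hψ] at h
    exact absurd (congrArg (fun p : Equiv.Perm (Fin 50) => p 0) h) (by decide +kernel)
  · rw [MonoidHom.range_eq_map, ← hgen, MonoidHom.map_closure, ← Set.range_comp]
    congr 1
    exact congrArg Set.range (funext hψ)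

end Cfsg.Agent.PSU35.Cosets
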